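import Cfsg.Agent.Lib.Spor.Th.DeriveSound

/-!
Canonical preimages of the involutions of the class of `a` in a central extension of the presented
Thompson group.
-/

namespace CfsgLib.Spor.Th.Mult

variable {Γ : Type*} [Group Γ]

/-- conjugates of `a` -/
def IsA (v : Cfsg.Spor.Th) : Prop := ∃ g : Cfsg.Spor.Th, g⁻¹ * letter 0 * g = v

theorem IsA.conj {v : Cfsg.Spor.Th} (h : IsA v) (g : Cfsg.Spor.Th) : IsA (g⁻¹ * v * g) := by
  obtain ⟨k, rfl⟩ := h
  exact ⟨k * g, by group⟩

theorem IsA.sq {v : Cfsg.Spor.Th} (h : IsA v) : v * v = 1 := by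
  obtain ⟨k, rfl⟩ := h
  calc k⁻¹ * letter 0 * k * (k⁻¹ * letter 0 * k) = k⁻¹ * (letter 0 * letter 0) * k := by group
    _ = 1 := by rw [invol_sq (by norm_num)]; group

theorem IsA.inv {v : Cfsg.Spor.Th} (h : IsA v) : v⁻¹ = v := inv_eq_of_mul_eq_one_left h.sq

/-- A central extension in which the preimages of the centraliser of `a` commute with the
preimages of `a`. -/
structure Ext (π : Γ →* Cfsg.Spor.Th) : Prop where
  surj : Function.Surjective π
  central : π.ker ≤ Subgroup.center Γ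
  cent : ∀ g A : Γ, Commute (π g) (letter 0) → π A = letter 0 → Commute g A

variable {π : Γ →* Cfsg.Spor.Th}

theorem Ext.ker_comm (E : Ext π) {z : Γ} (hz : π z = 1) (g : Γ) : z * g = g * z :=
  (Subgroup.mem_center_iff.1 (E.central hz) g).symm

open Classical in
/-- the preimage of a conjugate of `a` obtained by conjugating the preimage `A` of `a` -/
noncomputable def X (π : Γ →* Cfsg.Spor.Th) (A : Γ) (v : Cfsg.Spor.Th) : Γ :=
  if h : ∃ g : Γ, (π g)⁻¹ * letter 0 * π g = v then h.choose⁻¹ * A * h.choose else 1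

variable (E : Ext π) {A : Γ} (hA : π A = letter 0)

include E hA in
theorem X_conj (g : Γ) : X π A ((π g)⁻¹ * letter 0 * π g) = g⁻¹ * A * g := by
  have h : ∃ k : Γ, (π k)⁻¹ * letter 0 * π k = (π g)⁻¹ * letter 0 * π g := ⟨g, rfl⟩
  rw [X, dif_pos h]
  have hk := h.choose_spec
  generalize h.choose = k at hk ⊢
  have hc : Commute (π (k * g⁻¹)) (letter 0) := by
    rw [map_mul, map_inv]
    calc π k * (π g)⁻¹ * letter 0
        = π k * ((π g)⁻¹ * letter 0 * π g) * (π g)⁻¹ := by group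
      _ = π k * ((π k)⁻¹ * letter 0 * π k) * (π g)⁻¹ := by rw [hk]
      _ = letter 0 * (π k * (π g)⁻¹) := by group
  have := (E.cent _ A hc hA).eq
  calc k⁻¹ * A * k = k⁻¹ * (A * (k * g⁻¹)) * g := by group
    _ = k⁻¹ * ((k * g⁻¹) * A) * g := by rw [this]
    _ = g⁻¹ * A * g := by group

include E hA in
theorem X_a : X π A (letter 0) = A := by simpa using X_conj E hA 1

include E in
theorem exists_lift {v : Cfsg.Spor.Th} (h : IsA v) :
    ∃ g : Γ, (π g)⁻¹ * letter 0 * π g = v := by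
  obtain ⟨k, rfl⟩ := h
  obtain ⟨g, rfl⟩ := E.surj k
  exact ⟨g, rfl⟩

include E hA in
theorem π_X {v : Cfsg.Spor.Th} (h : IsA v) : π (X π A v) = v := by
  obtain ⟨g, rfl⟩ := exists_lift E h
  rw [X_conj E hA, map_mul, map_mul, map_inv, hA]

include E hA in
/-- equivariance -/
theorem X_equiv {v : Cfsg.Spor.Th} (h : IsA v) (g : Γ) :
    g⁻¹ * X π A v * g = X π A ((π g)⁻¹ * v * π g) := by
  obtain ⟨k, rfl⟩ := exists_lift E h
  rw [X_conj E hA k]
  have e : (π g)⁻¹ * ((π k)⁻¹ * letter 0 * π k) * π g = (π (k * g))⁻¹ * letter 0 * π (k * g) := by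
    rw [map_mul]; group
  rw [e, X_conj E hA]
  group

include E hA in
theorem X_commute {v : Cfsg.Spor.Th} (h : IsA v) {g : Γ} (hc : Commute (π g) v) :
    Commute g (X π A v) := by
  have := X_equiv E hA h g
  rw [show (π g)⁻¹ * v * π g = v by rw [mul_assoc, ← hc.eq, inv_mul_cancel_left]] at this
  show g * X π A v = X π A v * g
  conv_lhs => rw [← this]
  group

end CfsgLib.Spor.Th.Mult
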