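import Cfsg.Agent.Lib.Spor.Th.Mult.Checks
import Cfsg.Agent.Lib.Spor.Th.Mult.Canon
import Cfsg.Agent.Lib.Spor.Th.DSubBound

/-!
In a central extension of the presented Thompson group the preimages of the centraliser of `a`
commute with the preimages of `a`, as soon as the centraliser is generated by its obvious
generators.
-/

namespace CfsgLib.Spor.Th.Mult

open CfsgLib.Spor.Th

variable {Γ : Type*} [Group Γ] (π : Γ →* Cfsg.Spor.Th)

/-- the preimage of the centraliser of `a` -/
noncomputable def centPre : Subgroup Γ :=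
  (Subgroup.centralizer ({letter 0} : Set Cfsg.Spor.Th)).comap π

variable {π}

theorem mem_centPre {g : Γ} : g ∈ centPre π ↔ Commute (π g) (letter 0) := by
  rw [centPre, Subgroup.mem_comap, Subgroup.mem_centralizer_iff]
  simp [Commute, SemiconjBy, eq_comm]

open scoped IsMulCommutative in
/-- the commutator with a preimage of `a` -/
noncomputable def chi (hc : π.ker ≤ Subgroup.center Γ) {A : Γ} (hA : π A = letter 0) :
    centPre π →* Subgroup.center Γ where
  toFun g := ⟨g.1 * A * g.1⁻¹ * A⁻¹, hc (by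
    rw [MonoidHom.mem_ker, map_mul, map_mul, map_mul, map_inv, map_inv, hA,
      (mem_centPre.1 g.2).eq]
    group)⟩
  map_one' := Subtype.ext (by simp)
  map_mul' g h := Subtype.ext (by
    have hz : h.1 * A * h.1⁻¹ * A⁻¹ ∈ Subgroup.center Γ := hc (by
      rw [MonoidHom.mem_ker, map_mul, map_mul, map_mul, map_inv, map_inv, hA,
        (mem_centPre.1 h.2).eq]
      group)
    have := Subgroup.mem_center_iff.1 hz g.1
    show g.1 * h.1 * A * (g.1 * h.1)⁻¹ * A⁻¹ = (g.1 * A * g.1⁻¹ * A⁻¹) * (h.1 * A * h.1⁻¹ * A⁻¹)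
    calc g.1 * h.1 * A * (g.1 * h.1)⁻¹ * A⁻¹
        = g.1 * (h.1 * A * h.1⁻¹ * A⁻¹) * A * g.1⁻¹ * A⁻¹ := by group
      _ = (h.1 * A * h.1⁻¹ * A⁻¹) * (g.1 * A * g.1⁻¹ * A⁻¹) := by rw [this]; group
      _ = _ := (Subgroup.mem_center_iff.1 hz _).symm)

theorem cent_of_centralizer (hs : Function.Surjective π) (hc : π.ker ≤ Subgroup.center Γ)
    (hC : Subgroup.centralizer ({CfsgLib.ThCent.th .a} : Set Cfsg.Spor.Th) = CfsgLib.ThCent.hSub) :
    ∀ g A : Γ, Commute (π g) (letter 0) → π A = letter 0 → Commute g A := by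
  classical
  intro g A hg hA
  have hg' := hg
  let χ := chi hc hA
  let f : Nat → Subgroup.center Γ := fun x =>
    if h : Function.surjInv hs (letter x) ∈ centPre π then χ ⟨_, h⟩ else 1
  have hker : ∀ z : Γ, π z = 1 → ∀ h, χ ⟨z, h⟩ = 1 := fun z hz h => Subtype.ext (by
    show z * A * z⁻¹ * A⁻¹ = 1
    rw [(Subgroup.mem_center_iff.1 (hc hz) A).symm]
    group)
  have hval : ∀ (w : List Nat), (∀ x ∈ w, Commute (letter x) (letter 0)) → ∀ (q : Γ) (h : q ∈ centPre π),
      π q = tev w → χ ⟨q, h⟩ = (w.map f).prod := by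
    intro w
    induction w with
    | nil => intro _ q h e; simpa using hker q (by simpa [tev] using e) h
    | cons x l ih =>
      intro hw q h e
      have hx : Function.surjInv hs (letter x) ∈ centPre π := by
        rw [mem_centPre, Function.surjInv_eq hs]; exact hw x (List.mem_cons_self ..)
      have hr : (Function.surjInv hs (letter x))⁻¹ * q ∈ centPre π := mul_mem (inv_mem hx) h
      have := ih (fun y hy => hw y (List.mem_cons_of_mem _ hy)) _ hr
        (by rw [map_mul, map_inv, Function.surjInv_eq hs, e, tev_cons, inv_mul_cancel_left])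
      rw [List.map_cons, List.prod_cons, ← this, show f x = χ ⟨_, hx⟩ from dif_pos hx, ← map_mul]
      exact congrArg χ (Subtype.ext (by simp))
  have hsq : ∀ p : centPre π, χ p * χ p = 1 := fun p => by
    have hA2 : π (A * A) = 1 := by rw [map_mul, hA, invol_sq (by norm_num)]
    have hp : p.1 * A * p.1⁻¹ * A⁻¹ ∈ Subgroup.center Γ := (χ p).2
    refine Subtype.ext ?_
    show (p.1 * A * p.1⁻¹ * A⁻¹) * (p.1 * A * p.1⁻¹ * A⁻¹) = 1
    calc (p.1 * A * p.1⁻¹ * A⁻¹) * (p.1 * A * p.1⁻¹ * A⁻¹)
        = (p.1 * A * p.1⁻¹) * (A⁻¹ * (p.1 * A * p.1⁻¹ * A⁻¹)) := by group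
      _ = (p.1 * A * p.1⁻¹) * ((p.1 * A * p.1⁻¹ * A⁻¹) * A⁻¹) := by
          rw [Subgroup.mem_center_iff.1 hp]
      _ = p.1 * (A * A) * p.1⁻¹ * (A * A)⁻¹ := by group
      _ = 1 := by rw [Subgroup.mem_center_iff.1 (hc hA2) p.1]; group
  have hf2 : ∀ x, f x * f x = 1 := fun x => by
    simp only [f]
    split
    · exact hsq _
    · simp
  have hcom : ∀ x ∈ selC, Commute (letter x) (letter 0) := by
    intro x hx
    have h : (selC.all fun x => eqC [x, 0] [0, x]) = true := by decide +kernel
    have := eqC_sound (List.all_eq_true.1 h x hx)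
    simpa [tev, Commute, SemiconjBy] using this
  have hrel : ∀ w ∈ thRels, (∀ x ∈ w, x ∈ selC) → (w.map f).prod = 1 := fun w hw hl => by
    rw [← hval w (fun x hx => hcom x (hl x hx)) 1 (one_mem _) (by rw [map_one, tev_rel hw])]
    exact map_one χ
  have hinv : ∀ x ∈ selC, x < 11 → tiv x ∈ selC → f (tiv x) = f x := fun x hx hlt hx' => by
    have h1 : ([x, tiv x].map f).prod = 1 := by
      rw [← hval [x, tiv x] (by
        intro y hy; simp only [List.mem_cons, List.not_mem_nil, or_false] at hy
        rcases hy with rfl | rfl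
        · exact hcom _ hx
        · exact hcom _ hx') 1 (one_mem _) (by simp [tev, letter_tiv hlt])]
      exact map_one χ
    simp only [List.map_cons, List.map_nil, List.prod_cons, List.prod_nil, mul_one] at h1
    exact mul_left_cancel (h1.trans (hf2 x).symm)
  have h6 : f 6 = f 5 := hinv 5 (by decide +kernel) (by norm_num) (by decide +kernel)
  have h8 : f 8 = f 7 := hinv 7 (by decide +kernel) (by norm_num) (by decide +kernel)
  have h10 : f 10 = f 9 := hinv 9 (by decide +kernel) (by norm_num) (by decide +kernel)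
  have odd3 : ∀ z : Subgroup.center Γ, z * z = 1 → z * (z * z) = 1 → z = 1 := fun z a b => by
    rwa [a, mul_one] at b
  have fa : f 0 = 1 := by
    have hm : Function.surjInv hs (letter 0) ∈ centPre π := by
      rw [mem_centPre, Function.surjInv_eq hs]
    have hAm : A ∈ centPre π := mem_centPre.2 (by rw [hA])
    have hz : A⁻¹ * Function.surjInv hs (letter 0) ∈ centPre π := mul_mem (inv_mem hAm) hm
    rw [show f 0 = χ ⟨_, hm⟩ from dif_pos hm,
      show (⟨_, hm⟩ : centPre π) = ⟨A, hAm⟩ * ⟨_, hz⟩ from Subtype.ext (by simp), map_mul,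
      hker _ (by rw [map_mul, map_inv, hA, Function.surjInv_eq hs, inv_mul_cancel]) hz, mul_one]
    exact Subtype.ext (by show A * A * A⁻¹ * A⁻¹ = 1; group)
  have fs : f 5 = 1 := by
    have := hrel [5, 5, 5, 5, 5, 5, 5] (by decide +kernel) (by decide +kernel)
    simpa [hf2, ← mul_assoc] using this
  have ft : f 7 = 1 := by
    have := hrel [7, 7, 7] (by decide +kernel) (by decide +kernel)
    simpa [hf2, ← mul_assoc] using this
  have fc : f 2 = 1 := by
    have := hrel [9, 9, 2, 0] (by decide +kernel) (by decide +kernel)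
    simpa [hf2, fa, ← mul_assoc] using this
  have fu : f 9 = 1 := by
    have := hrel [0, 2, 6, 10, 6, 10, 6, 10] (by decide +kernel) (by decide +kernel)
    simpa [hf2, fa, fc, fs, h6, h10, ← mul_assoc] using this
  have fe : f 4 = 1 := by
    have := hrel [4, 6, 4, 5, 6, 6, 6, 4, 5, 5, 5] (by decide +kernel) (by decide +kernel)
    simpa [hf2, fs, h6, ← mul_assoc] using this
  have fd : f 3 = 1 := by
    have := hrel [3, 4, 3, 4, 3, 4] (by decide +kernel) (by decide +kernel)
    have h3 : f 3 * (f 3 * f 3) = 1 := by simpa [fe, mul_assoc] using this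
    exact odd3 _ (hf2 3) h3
  have hall : ∀ x ∈ selC, f x = 1 := by
    intro x hx
    simp only [selC, List.mem_cons, List.not_mem_nil, or_false] at hx
    rcases hx with rfl | rfl | rfl | rfl | rfl | rfl | rfl | rfl | rfl | rfl
    all_goals first | assumption | simp [h6, h8, h10, fs, ft, fu]
  -- every element of the centraliser is a word
  have hmem : π g ∈ CfsgLib.ThCent.hSub := by
    rw [← hC, Subgroup.mem_centralizer_iff]
    intro y hy
    rw [Set.mem_singleton_iff.1 hy]
    exact hg.symm.eq
  obtain ⟨w, hw, e⟩ : ∃ w, (∀ x ∈ w, x ∈ selC) ∧ π g = tev w := by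
    clear hg
    revert hmem
    generalize π g = q₀
    intro hmem
    induction hmem using Subgroup.closure_induction'' with
    | mem q hq =>
      obtain ⟨x, hx, rfl⟩ := hq
      have h1 : ∀ n ∈ selC, ∃ w, (∀ y ∈ w, y ∈ selC) ∧ letter n = tev w := fun n hn =>
        ⟨[n], by simpa using hn, by simp [tev]⟩
      cases x
      · exact h1 0 (by decide +kernel)
      · exact absurd rfl hx
      · exact h1 2 (by decide +kernel)
      · exact h1 3 (by decide +kernel)
      · exact h1 4 (by decide +kernel)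
      · exact h1 5 (by decide +kernel)
      · exact h1 7 (by decide +kernel)
      · exact h1 9 (by decide +kernel)
    | inv_mem q hq =>
      obtain ⟨x, hx, rfl⟩ := hq
      have h1 : ∀ n ∈ selC, ∀ m, n < 11 → tiv n = m → m ∈ selC →
          ∃ w, (∀ y ∈ w, y ∈ selC) ∧ (letter n)⁻¹ = tev w := fun n _ m hlt e hm =>
        ⟨[m], by simpa using hm, by simp [tev, ← e, letter_tiv hlt]⟩
      cases x
      · exact h1 0 (by decide +kernel) _ (by norm_num) rfl (by decide +kernel)
      · exact absurd rfl hx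
      · exact h1 2 (by decide +kernel) _ (by norm_num) rfl (by decide +kernel)
      · exact h1 3 (by decide +kernel) _ (by norm_num) rfl (by decide +kernel)
      · exact h1 4 (by decide +kernel) _ (by norm_num) rfl (by decide +kernel)
      · exact h1 5 (by decide +kernel) _ (by norm_num) rfl (by decide +kernel)
      · exact h1 7 (by decide +kernel) _ (by norm_num) rfl (by decide +kernel)
      · exact h1 9 (by decide +kernel) _ (by norm_num) rfl (by decide +kernel)
    | one => exact ⟨[], by simp, by simp [tev]⟩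
    | mul p q _ _ hp hq =>
      obtain ⟨u, hu, rfl⟩ := hp
      obtain ⟨v, hv, rfl⟩ := hq
      exact ⟨u ++ v, fun x hx => (List.mem_append.1 hx).elim (hu x) (hv x), (tev_append u v).symm⟩
  have hz : χ ⟨g, mem_centPre.2 hg'⟩ = 1 := by
    rw [hval w (fun x hx => hcom x (hw x hx)) g (mem_centPre.2 hg') e]
    exact List.prod_eq_one fun z hz => by
      obtain ⟨x, hx, rfl⟩ := List.mem_map.1 hz
      exact hall x (hw x hx)
  have hz' : g * A * g⁻¹ * A⁻¹ = 1 := congrArg Subtype.val hz
  show g * A = A * g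
  exact mul_inv_eq_iff_eq_mul.1 (mul_inv_eq_one.1 hz')

end CfsgLib.Spor.Th.Mult
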