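import Cfsg.Agent.Lib.Spor.Th.Mult.Good
import Cfsg.Agent.Lib.Spor.Th.Maps

/-!
Checkers for certificates: names of involutions, frames for commuting pairs, reduction of products
of involutions to one.
-/

namespace CfsgLib.Spor.Th.Mult

open CfsgLib.Spor.Th

/-- equality decided in one of the three subgroups -/
noncomputable def eqT (u v : List Nat) : Bool := eqC u v || eqG u v || eqK u v

theorem eqT_sound {u v : List Nat} (h : eqT u v = true) : tev u = tev v := by
  simp only [eqT, Bool.or_eq_true] at h
  rcases h with (h | h) | h
  · exact eqC_sound h
  · exact eqG_sound h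
  · exact eqK_sound h

/-- conjugated word `g w g⁻¹` -/
noncomputable def conjW (g w : List Nat) : List Nat := g ++ w ++ twinv g

/-- conjugated word `g⁻¹ w g` -/
noncomputable def nameW (w g : List Nat) : List Nat := twinv g ++ w ++ g

/-- all letters are letters -/
noncomputable def okW (w : List Nat) : Bool := w.all fun x => Nat.blt x 11

theorem okW_spec {w : List Nat} (h : okW w = true) : ∀ x ∈ w, x < 11 := fun x hx => by
  simp only [okW, List.all_eq_true] at h
  exact lt_of_blt (h x hx)

theorem tev_conjW {g : List Nat} (w : List Nat) (h : okW g = true) :
    tev (conjW g w) = tev g * tev w * (tev g)⁻¹ := by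
  rw [conjW, tev_append, tev_append, tev_winv (okW_spec h)]

theorem tev_nameW (w : List Nat) {g : List Nat} (h : okW g = true) :
    tev (nameW w g) = (tev g)⁻¹ * tev w * tev g := by
  rw [nameW, tev_append, tev_append, tev_winv (okW_spec h)]

/-- conjugation letter by letter -/
noncomputable def chainTo : List (Nat × List Nat) → List Nat → Option (List Nat)
  | [], w => some w
  | (x, n) :: l, w => bif Nat.blt x 11 && eqT ([x] ++ w ++ [tiv x]) n then chainTo l n else none

/-- the word along a chain -/
noncomputable def chainW : List (Nat × List Nat) → List Nat
  | [] => []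
  | (x, _) :: l => chainW l ++ [x]

theorem chainTo_sound : ∀ (l : List (Nat × List Nat)) (w z : List Nat), chainTo l w = some z →
    tev (chainW l) * tev w * (tev (chainW l))⁻¹ = tev z
  | [], w, z, h => by
    simp only [chainTo, Option.some.injEq] at h
    simp [chainW, h, tev]
  | (x, n) :: l, w, z, h => by
    rw [chainTo] at h
    cases hb : (Nat.blt x 11 && eqT ([x] ++ w ++ [tiv x]) n) with
    | false => rw [hb] at h; simp at h
    | true =>
      rw [hb, cond_true] at h
      simp only [Bool.and_eq_true] at hb
      have e := eqT_sound hb.2
      rw [tev_append, tev_append, tev_singleton', tev_singleton',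
        letter_tiv (lt_of_blt hb.1)] at e
      rw [← chainTo_sound l n z h, ← e, chainW, tev_append, tev_singleton']
      group
where
  tev_singleton' {x : Nat} : tev [x] = letter x := by simp [tev]

/-- a generator of a centraliser and its image -/
structure Img where
  /-- the element -/
  src : List Nat
  /-- the image -/
  dst : List Nat
  /-- the steps of the conjugation, if needed -/
  steps : List (Nat × List Nat)

/-- the image is right -/
noncomputable def okImg (g : List Nat) (m : Img) : Bool :=
  okW g && (match m.steps with
    | [] => eqT (conjW g m.src) m.dst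
    | _ :: _ => (chainW m.steps == g) && (chainTo m.steps m.src == some m.dst))

theorem okImg_sound {g : List Nat} {m : Img} (h : okImg g m = true) :
    tev g * tev m.src * (tev g)⁻¹ = tev m.dst := by
  simp only [okImg, Bool.and_eq_true] at h
  obtain ⟨h1, h2⟩ := h
  split at h2
  · rw [← tev_conjW _ h1]
    exact eqT_sound h2
  · simp only [Bool.and_eq_true, beq_iff_eq] at h2
    rw [← h2.1]
    exact chainTo_sound _ _ _ h2.2

/-- product of sources -/
noncomputable def srcW (t : List Img) (q : List Nat) : List Nat :=
  (q.map fun i => (t.getD i ⟨[], [], []⟩).src).flatten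

/-- product of images -/
noncomputable def dstW (t : List Img) (q : List Nat) : List Nat :=
  (q.map fun i => (t.getD i ⟨[], [], []⟩).dst).flatten

theorem img_prod {g : List Nat} {t : List Img} (ht : t.all (okImg g) = true) :
    ∀ q : List Nat, (∀ i ∈ q, i < t.length) →
      tev g * tev (srcW t q) * (tev g)⁻¹ = tev (dstW t q)
  | [], _ => by simp [srcW, dstW, tev]
  | i :: q, hq => by
    have hi : i < t.length := hq i (List.mem_cons_self ..)
    have h1 := okImg_sound (List.all_eq_true.1 ht _ (List.getElem_mem hi))
    have h2 := img_prod ht q fun j hj => hq j (List.mem_cons_of_mem _ hj)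
    simp only [srcW, dstW, List.map_cons, List.flatten_cons, tev_append,
      List.getD_eq_getElem?_getD, List.getElem?_eq_getElem hi, Option.getD_some] at h2 ⊢
    rw [← h1, ← h2]
    group

end CfsgLib.Spor.Th.Mult
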