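import Cfsg.Agent.Lib.Spor.Th.Mult.Moves

/-!
Certificate data for the Schur multiplier of the Thompson group.
-/

namespace CfsgLib.Spor.Th.Mult

/-- the involutions used -/
def names : List Name :=
  [(0, []),
   (2, [3, 4]),
   (1, []),
   (2, [3, 2, 4, 3, 2]),
   (2, [3, 2, 4, 3]),
   (2, [3, 2, 4]),
   (2, []),
   (2, [3, 4, 5, 8]),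
   (2, [3, 4, 5]),
   (2, [3]),
   (2, [3, 5]),
   (2, [3, 6, 6]),
   (2, [5, 5]),
   (2, [3, 4, 5, 8, 10, 3, 9, 5, 4, 3]),
   (2, [3, 2, 3]),
   (2, [3, 2, 3, 4, 9]),
   (2, [3, 2, 3, 9]),
   (0, [1, 0, 9, 1, 0, 3, 10, 1, 10, 3, 4]),
   (3, []),
   (0, [1, 0]),
   (0, [1, 0, 2, 1]),
   (0, []),
   (0, [1, 9, 1, 3, 2, 1, 10, 1, 9, 3, 2, 4, 3]),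
   (0, [1, 0, 2, 1, 3, 2, 3]),
   (0, [1, 0, 9, 1, 10]),
   (0, [1, 0, 9, 1, 2, 3, 2, 1, 9, 3, 10, 3]),
   (0, [1, 0, 9, 1, 0, 9, 1, 3, 2, 3]),
   (0, [1, 0, 9, 1, 9]),
   (0, [1, 0, 2, 1, 3, 2, 1, 0, 3, 9]),
   (0, [1, 2, 3, 2, 1, 10, 3, 2, 3]),
   (0, [1, 2, 3, 2, 1, 9, 3, 2, 3]),
   (0, [1, 0, 2, 1, 3, 2, 1, 3]),
   (0, [1, 9, 1, 3, 2, 1, 10, 1, 9, 3, 2]),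
   (0, [1, 9, 1, 3, 2, 1, 10, 1, 9, 3, 4]),
   (3, [3]),
   (0, [1, 0, 2, 1, 3, 2, 1, 3, 9]),
   (0, [1, 0, 9, 1, 0, 9, 1]),
   (0, [1, 9, 3, 2, 3, 4, 10, 1, 9, 3]),
   (0, [1, 0, 2, 1, 3, 2, 1, 9, 3]),
   (3, [1, 0, 3, 2, 1, 4]),
   (0, [1, 0, 10, 1, 3, 10, 1, 2, 3, 9]),
   (0, [1, 2, 3, 9, 1, 2, 3, 2, 1, 10]),
   (0, [1, 0, 9, 1, 0, 9, 1, 3, 2, 4]),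
   (0, [1, 0, 9, 1, 0, 3, 10, 1, 10, 3]),
   (3, [9, 1, 2, 3, 2, 1, 4]),
   (0, [1, 0, 9, 1, 9, 3, 2, 1, 0, 4]),
   (0, [1, 0, 2, 1, 3, 10, 3]),
   (3, [1, 0, 3, 2, 1, 9]),
   (3, [3, 9, 3]),
   (0, [1, 0, 10, 1, 3, 2, 3, 9, 1, 9]),
   (1, [3, 2, 3]),
   (2, [3, 4, 5, 8, 10, 3, 6, 10, 6, 4, 3]),
   (2, [3, 2, 3, 4, 3, 10]),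
   (2, [3, 2, 4, 3, 5, 4, 3, 6, 8, 9]),
   (2, [3, 2]),
   (2, [3, 2, 3, 5]),
   (2, [3, 2, 3, 6, 8]),
   (2, [3, 5, 10, 3, 2, 3, 4]),
   (2, [3, 2, 3, 5, 4, 6]),
   (1, [3, 9, 3, 6, 6]),
   (2, [3, 4, 6, 8]),
   (2, [3, 4, 5, 8, 10, 3, 9, 5, 4]),
   (2, [3, 2, 3, 4, 3, 10, 3, 5]),
   (2, [3, 2, 5, 4, 3, 6, 4, 3, 9]),
   (2, [3, 2, 6, 4, 3, 2, 5, 4, 3]),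
   (2, [3, 2, 3, 5, 4, 3, 5, 10, 3, 5]),
   (2, [3, 2, 4, 3, 9, 6, 4, 3, 8, 6]),
   (2, [3, 10, 3, 6, 4, 3, 10, 6, 4]),
   (2, [3, 5, 5, 10, 3, 2, 3, 5, 4, 6, 7]),
   (2, [3, 4, 9, 3, 6, 10, 3, 6, 4, 5]),
   (2, [3, 5, 9, 3, 10, 3, 6, 7, 10]),
   (2, [3, 2, 3, 9, 3, 5]),
   (2, [3, 2, 3, 9, 3, 6, 6]),
   (2, [3, 2, 5]),
   (2, [3, 2, 6, 6]),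
   (2, [3, 6, 9, 3, 6, 4, 3, 2, 8]),
   (2, [3, 2, 3, 6, 9, 3, 6, 9, 6, 7]),
   (1, [3, 2]),
   (2, [3, 6, 10, 5, 8]),
   (2, [3, 6, 8, 9, 3, 5, 4, 3, 5]),
   (2, [3, 2, 3, 6, 8, 9, 3, 5]),
   (2, [3, 2, 3, 5, 4, 3]),
   (2, [3, 5, 9, 3, 5, 9, 3, 5, 5, 9]),
   (2, [3, 5, 9, 3, 6, 4, 3, 8, 10]),
   (2, [3, 5, 9, 3, 9, 3, 6, 8, 10, 5]),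
   (1, [3, 4, 10, 3, 4, 6, 6]),
   (2, [3, 2, 3, 5, 4, 3, 9, 6, 7]),
   (2, [3, 6, 9, 3, 5, 4, 3, 7]),
   (2, [3, 2, 3, 4, 5, 4, 3]),
   (2, [3, 2, 3, 9, 3, 2, 3]),
   (2, [3, 2, 4, 5, 8]),
   (2, [3, 2, 5, 4, 7, 6]),
   (2, [3, 2, 3, 9, 3]),
   (2, [3, 4, 6, 6]),
   (2, [3, 2, 4, 3, 6, 4, 3, 2, 3, 7]),
   (2, [3, 4, 6, 6, 10]),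
   (1, [3, 2, 4]),
   (2, [3, 2, 3, 4, 3]),
   (2, [3, 2, 4, 3, 5]),
   (2, [3, 9, 3, 2, 3, 10]),
   (2, [3, 2, 4, 3, 6, 4, 3, 7, 5, 10]),
   (2, [3, 2, 4, 6, 6]),
   (1, [3, 9]),
   (1, [3, 10, 3]),
   (2, [3, 4, 6, 9, 3, 10, 5]),
   (1, [3, 4, 6, 6, 10]),
   (2, [3, 4, 6, 10, 3, 6, 8, 10]),
   (2, [3, 4, 6, 9, 3, 2, 3, 10, 6]),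
   (2, [3, 4, 6, 9, 3, 2, 3, 10, 3]),
   (1, [3, 4, 5, 9, 3, 9, 3, 6]),
   (2, [3, 2, 6, 4, 3, 2, 8, 6, 4, 5]),
   (1, [3, 4, 10, 3, 5, 5]),
   (1, [3, 9, 6, 4, 6, 10]),
   (2, [3, 2, 4, 3, 2, 6, 8]),
   (2, [3, 2, 4, 3, 2, 5, 8]),
   (0, [1, 0, 9, 1, 10, 3, 4]),
   (2, [3, 2, 3, 4, 3, 2, 3]),
   (2, [3, 9, 3, 2, 3, 10, 3]),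
   (1, [3, 10, 3, 6]),
   (1, [3, 9, 3, 6]),
   (2, [3, 2, 3, 4, 6, 4, 3, 2, 3, 5])]

/-- centraliser generators with images -/
def imgs : Imgs :=
  [[⟨[0], [2], []⟩,
    ⟨[2], [0], []⟩,
    ⟨[4], [4], []⟩,
    ⟨[3, 2, 3, 4, 3, 2, 3], [2, 3, 2, 3, 9, 3, 2, 3, 9], []⟩,
    ⟨[5], [5], [(1, [5]), (2, [5]), (0, [5]), (1, [5])]⟩,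
    ⟨[7], [7], [(1, [7]), (2, [7]), (0, [7]), (1, [7])]⟩,
    ⟨[9], [4, 9], []⟩],
   [⟨[7], [7, 7], [(3, [7]), (2, [7]), (1, [7]), (3, [7]), (2, [7]), (4, [7]), (3, [7]), (2, [7]), (1, [7]), (10, [8]), (1, [7, 7]), (2, [7, 7]), (3, [7, 7]), (2, [7, 7]), (1, [7, 7])]⟩,
    ⟨[9], [0, 3, 2, 3, 4, 9, 3, 2, 3], []⟩,
    ⟨[4, 9], [3, 2, 3, 4, 9, 3, 2, 3], []⟩,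
    ⟨[0], [3, 2, 3, 2, 4, 3, 2, 3], []⟩,
    ⟨[6, 4, 5], [2, 5, 4, 3, 2, 5, 3, 4, 3, 2, 3, 5, 4, 3, 2, 5, 3, 4, 3, 2, 3], [(3, [5, 3, 4, 5, 3]), (2, [2, 5, 3, 4, 5, 3, 2]), (1, [1, 2, 5, 3, 4, 5, 3, 2, 1]), (3, [3, 1, 2, 5, 3, 4, 5, 3, 2, 1, 3]), (2, [2, 3, 1, 2, 5, 3, 4, 5, 3, 2, 1, 3, 2]), (4, [4, 2, 3, 1, 2, 5, 3, 4, 5, 3, 2, 1, 3, 2, 4]), (3, [4, 2, 3, 1, 2, 5, 3, 4, 5, 3, 2, 1, 3, 2, 4]), (2, [2, 4, 2, 3, 1, 2, 5, 3, 4, 5, 3, 2, 1, 3, 2, 4, 2]), (1, [4, 3, 2, 5, 3, 4, 3, 2, 3, 5, 4]), (10, [3, 2, 3, 4, 5, 4, 3, 2, 5, 3]), (1, [1, 3, 2, 3, 4, 5, 4, 3, 2, 5, 3, 1]), (2, [2, 1, 3, 2, 3, 4, 5, 4, 3, 2, 5, 3, 1, 2]), (3, [3, 2, 1, 3, 2, 3,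 4, 5, 4, 3, 2, 5, 3, 1, 2, 3]), (2, [2, 3, 2, 1, 3, 2, 3, 4, 5, 4, 3, 2, 5, 3, 1, 2, 3, 2]), (1, [2, 5, 4, 3, 2, 5, 3, 4, 3, 2, 3, 5, 4, 3, 2, 5, 3, 4, 3, 2, 3])]⟩]]

/-- the exact products used -/
def merges : List Merge :=
  [⟨0, 1, 3, 0, ⟨[], [4, 3, 4, 3, 4], 2, [3, 4]⟩⟩,
   ⟨10, 9, 11, 0, ⟨[4], [2, 5, 4, 3, 2, 5, 3, 4, 3, 2, 3, 5, 4, 3, 2, 5, 3, 4, 3, 2, 3], 1, [3, 9, 3, 5, 9, 5]⟩⟩,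
   ⟨14, 2, 15, 1, ⟨[1, 3], [0, 2, 3, 2, 3, 9, 3, 2, 3, 9], 1, [3, 4, 9, 3, 4]⟩⟩,
   ⟨15, 0, 16, 1, ⟨[], [10, 3, 2, 3, 4, 3, 2, 3, 9], 2, [3, 2, 3, 9]⟩⟩,
   ⟨20, 21, 23, 0, ⟨[], [2], 1, []⟩⟩,
   ⟨21, 20, 23, 0, ⟨[], [2], 1, []⟩⟩,
   ⟨19, 22, 24, 0, ⟨[], [4], 2, []⟩⟩,
   ⟨23, 17, 26, 0, ⟨[], [4], 2, []⟩⟩,
   ⟨19, 27, 28, 0, ⟨[], [2, 4], 2, [3, 2, 3, 9, 3, 2, 3]⟩⟩,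
   ⟨17, 26, 23, 0, ⟨[], [9, 3, 2, 4, 3, 2, 9], 2, [3, 10, 3, 2, 3]⟩⟩,
   ⟨23, 29, 30, 0, ⟨[], [2, 3, 9, 3, 2, 3, 9, 3], 1, [3, 4, 10]⟩⟩,
   ⟨31, 22, 35, 0, ⟨[], [2, 3, 2, 3, 9, 3, 2, 3, 9], 1, [3, 4, 10, 3, 4]⟩⟩,
   ⟨20, 22, 36, 0, ⟨[], [4], 2, []⟩⟩,
   ⟨40, 17, 41, 0, ⟨[], [2, 3, 9, 3, 2, 3, 9, 3], 1, [3, 4, 10]⟩⟩,
   ⟨43, 39, 44, 0, ⟨[], [3, 4, 3, 2, 3, 9, 3, 2], 2, [3, 4, 5, 8, 10, 3, 6, 9, 6, 4]⟩⟩,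
   ⟨31, 30, 46, 0, ⟨[], [2, 3, 2, 4, 3, 2], 2, [3, 2, 3, 9, 3]⟩⟩,
   ⟨46, 18, 48, 0, ⟨[], [9, 3, 2, 3, 4, 3, 2, 3], 2, [3, 4, 5, 8, 10, 3, 9, 5, 4, 3]⟩⟩,
   ⟨2, 0, 50, 1, ⟨[], [3, 2, 3, 2, 3, 2, 3], 1, [3, 2, 3]⟩⟩,
   ⟨50, 13, 51, 0, ⟨[3, 4, 6, 4, 3, 4, 3, 6, 4, 6, 3, 4, 4], [2, 3, 2, 3, 9, 3, 2, 3, 9, 5, 4, 9, 5, 2, 3, 2, 3, 9, 3, 2, 3, 9, 5, 2, 3, 2, 3, 9, 3, 2, 3, 9, 4, 9, 5, 4, 9, 2, 3, 2, 3, 9, 3, 2, 3, 9, 5, 5], 2, [3, 4, 5, 8, 10, 3, 9, 3, 6, 4, 3]⟩⟩,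
   ⟨55, 14, 56, 0, ⟨[1, 1, 1, 4, 2], [0, 3, 2, 3, 4, 9, 3, 2, 3, 0, 3, 2, 3, 4, 9, 3, 2, 3, 0, 3, 2, 3, 4, 9, 3, 2, 3, 2, 5, 4, 3, 2, 5, 3, 4, 3, 2, 3, 5, 4, 3, 2, 5, 3, 4, 3, 2, 3, 3, 2, 3, 4, 9, 3, 2, 3], 1, [3, 9, 3, 4, 6]⟩⟩,
   ⟨58, 14, 59, 2, ⟨[3, 4, 4, 4, 6, 4, 4, 3, 4, 2, 4, 3], [2, 3, 2, 3, 9, 3, 2, 3, 9, 5, 5, 5, 4, 9, 5, 5, 2, 3, 2, 3, 9, 3, 2, 3, 9, 5, 4, 5, 2, 3, 2, 3, 9, 3, 2, 3, 9], 2, [3, 2, 3, 4, 5, 9, 3, 10, 3]⟩⟩,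
   ⟨62, 59, 65, 1, ⟨[4, 4, 3, 4, 6, 4, 4, 3, 5], [5, 5, 2, 3, 2, 3, 9, 3, 2, 3, 9, 5, 4, 9, 5, 5, 2, 3, 2, 3, 9, 3, 2, 3, 9, 7], 2, [3, 5, 10, 3, 5, 10, 3, 10, 3, 5]⟩⟩,
   ⟨63, 66, 68, 1, ⟨[1, 1, 1, 3, 4, 2], [0, 3, 2, 3, 4, 9, 3, 2, 3, 0, 3, 2, 3, 4, 9, 3, 2, 3, 0, 3, 2, 3, 4, 9, 3, 2, 3, 3, 2, 3, 2, 4, 3, 2, 3, 2, 5, 4, 3, 2, 5, 3, 4, 3, 2, 3, 5, 4, 3, 2, 5, 3, 4, 3, 2, 3, 3, 2, 3, 4, 9, 3, 2, 3], 2, [3, 2, 3, 4, 6, 4, 5]⟩⟩,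
   ⟨50, 14, 16, 0, ⟨[2], [4], 2, []⟩⟩,
   ⟨54, 71, 72, 0, ⟨[1, 3, 4, 2], [0, 3, 2, 3, 4, 9, 3, 2, 3, 3, 2, 3, 2, 4, 3, 2, 3, 2, 5, 4, 3, 2, 5, 3, 4, 3, 2, 3, 5, 4, 3, 2, 5, 3, 4, 3, 2, 3, 3, 2, 3, 4, 9, 3, 2, 3], 2, [3, 2, 3, 9, 6, 4, 5]⟩⟩,
   ⟨54, 73, 74, 0, ⟨[1, 1, 1, 4, 2], [0, 3, 2, 3, 4, 9, 3, 2, 3, 0, 3, 2, 3, 4, 9, 3, 2, 3, 0, 3, 2, 3, 4, 9, 3, 2, 3, 2, 5, 4, 3, 2, 5, 3, 4, 3, 2, 3, 5, 4, 3, 2, 5, 3, 4, 3, 2, 3, 3, 2, 3, 4, 9, 3, 2, 3], 1, [3, 9, 3, 4, 6]⟩⟩,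
   ⟨74, 72, 77, 2, ⟨[4, 5, 4, 2, 5, 4, 5], [5, 7, 5, 4, 7, 5, 7], 2, [5, 5]⟩⟩,
   ⟨77, 75, 78, 0, ⟨[0, 4, 3, 4, 2, 4, 4, 4, 3, 4, 4, 2, 6], [2, 5, 2, 3, 2, 3, 9, 3, 2, 3, 9, 5, 4, 5, 5, 5, 2, 3, 2, 3, 9, 3, 2, 3, 9, 5, 5, 4, 4, 9], 2, [3, 2, 3, 4, 5, 4, 3, 10, 3, 6, 8]⟩⟩,
   ⟨84, 79, 85, 2, ⟨[1, 4, 2, 4, 3, 2, 5, 4, 2, 4, 3, 4, 6], [0, 5, 4, 5, 2, 3, 2, 3, 9, 3, 2, 3, 9, 4, 7, 5, 4, 5, 2, 3, 2, 3, 9, 3, 2, 3, 9, 5, 4, 9], 2, [3, 6, 4, 9, 3, 2, 4, 3, 6]⟩⟩,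
   ⟨83, 85, 86, 1, ⟨[4, 5, 5, 4, 3, 4, 6, 4, 3, 4], [5, 7, 7, 5, 2, 3, 2, 3, 9, 3, 2, 3, 9, 5, 4, 9, 5, 2, 3, 2, 3, 9, 3, 2, 3, 9, 5], 2, [3, 6, 8, 9, 3, 4]⟩⟩,
   ⟨88, 81, 0, 2, ⟨[], [3, 4, 6, 4, 3, 2, 3, 4, 3, 2, 3, 4, 5, 4, 3], 2, [3, 2, 3, 4, 5, 4, 3]⟩⟩,
   ⟨0, 82, 87, 0, ⟨[], [10, 6, 6, 3, 10, 6, 3, 10, 6, 3, 4, 3, 5, 9, 3, 5, 9, 3, 5, 5, 9], 2, [3, 5, 9, 3, 5, 9, 3, 5, 5, 9]⟩⟩,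
   ⟨6, 2, 89, 1, ⟨[1, 2], [0, 4], 2, [3, 2, 3, 4, 3, 2, 3]⟩⟩,
   ⟨89, 6, 2, 2, ⟨[1, 2], [0, 4], 2, [3, 2, 3, 4, 3, 2, 3]⟩⟩,
   ⟨54, 77, 92, 1, ⟨[1, 2], [0, 4], 2, [3, 2, 3, 4, 3, 2, 3]⟩⟩,
   ⟨13, 51, 50, 2, ⟨[3, 4, 6, 4, 3, 4, 3, 6, 4, 6, 3, 4, 4], [2, 3, 2, 3, 9, 3, 2, 3, 9, 5, 4, 9, 5, 2, 3, 2, 3, 9, 3, 2, 3, 9, 5, 2, 3, 2, 3, 9, 3, 2, 3, 9, 4, 9, 5, 4, 9, 2, 3, 2, 3, 9, 3, 2, 3, 9, 5, 5], 2, [3, 4, 5, 8, 10, 3, 9, 3, 6, 4, 3]⟩⟩,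
   ⟨97, 54, 0, 2, ⟨[], [3, 4, 3, 2, 3, 4, 3, 2, 3, 4, 3], 2, [3, 2, 3, 4, 3]⟩⟩,
   ⟨0, 2, 50, 0, ⟨[], [2], 1, []⟩⟩,
   ⟨77, 9, 99, 0, ⟨[3], [2, 3, 2, 3, 9, 3, 2, 3, 9], 1, [3, 4, 10, 3, 4]⟩⟩,
   ⟨51, 13, 50, 2, ⟨[4, 3, 2, 4, 2, 4, 4, 4, 3, 4, 2, 4, 6], [5, 2, 3, 2, 3, 9, 3, 2, 3, 9, 4, 5, 4, 5, 5, 5, 2, 3, 2, 3, 9, 3, 2, 3, 9, 5, 4, 5, 4, 9], 2, [3, 4, 5, 8, 10, 3, 9, 5, 4, 3]⟩⟩,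
   ⟨14, 16, 50, 2, ⟨[2], [4], 2, []⟩⟩,
   ⟨102, 96, 103, 0, ⟨[4, 2, 3, 4, 2, 3, 4, 4, 2, 3, 4, 4, 4], [5, 4, 2, 3, 2, 3, 9, 3, 2, 3, 9, 5, 4, 2, 3, 2, 3, 9, 3, 2, 3, 9, 5, 5, 4, 2, 3, 2, 3, 9, 3, 2, 3, 9, 5, 5, 5], 2, [3, 2, 3, 9]⟩⟩,
   ⟨104, 95, 105, 2, ⟨[1, 2], [0, 4], 2, [3, 2, 3, 4, 3, 2, 3]⟩⟩,
   ⟨101, 105, 106, 1, ⟨[0, 4, 4, 4, 3, 4, 4, 6, 4, 3, 4], [2, 5, 5, 5, 2, 3, 2, 3, 9, 3, 2, 3, 9, 5, 5, 4, 9, 5, 2, 3, 2, 3, 9, 3, 2, 3, 9, 5], 2, [3, 5, 9, 3, 5, 4, 3, 10, 3, 5]⟩⟩,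
   ⟨108, 98, 109, 2, ⟨[0, 4, 3, 6, 4, 4, 4, 6, 4, 3, 4, 3], [2, 5, 2, 3, 2, 3, 9, 3, 2, 3, 9, 4, 9, 5, 5, 5, 4, 9, 5, 2, 3, 2, 3, 9, 3, 2, 3, 9, 5, 2, 3, 2, 3, 9, 3, 2, 3, 9], 2, [3, 9, 3, 5, 10, 3, 5, 10, 3]⟩⟩,
   ⟨103, 109, 111, 0, ⟨[2, 3, 4, 3, 4, 2, 4, 3, 4, 4, 2, 4, 4], [4, 2, 3, 2, 3, 9, 3, 2, 3, 9, 5, 2, 3, 2, 3, 9, 3, 2, 3, 9, 5, 4, 5, 2, 3, 2, 3, 9, 3, 2, 3, 9, 5, 5, 4, 5, 5], 2, [3, 2, 3, 4, 6, 9, 5, 7]⟩⟩,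
   ⟨110, 112, 113, 1, ⟨[1, 3, 4, 6, 4, 4, 3, 4, 5], [0, 2, 3, 2, 3, 9, 3, 2, 3, 9, 5, 4, 9, 5, 5, 2, 3, 2, 3, 9, 3, 2, 3, 9, 5, 7], 2, [3, 6, 6, 9, 3, 5, 4, 3, 10, 3]⟩⟩,
   ⟨19, 32, 115, 0, ⟨[], [3], 2, [3, 4]⟩⟩,
   ⟨2, 6, 89, 0, ⟨[2], [4], 2, []⟩⟩]

/-- the witness for the pair `a`, `e` -/
def witness : List Merge :=
  [⟨0, 118, 119, 0, ⟨[], [5, 3, 9, 3, 2, 3, 10, 3, 6], 1, [3, 10, 3, 6]⟩⟩,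
   ⟨118, 6, 120, 0, ⟨[4, 3, 5, 4, 2, 4, 4, 3, 6, 4, 3], [5, 2, 3, 2, 3, 9, 3, 2, 3, 9, 7, 5, 4, 5, 5, 2, 3, 2, 3, 9, 3, 2, 3, 9, 4, 9, 5, 2, 3, 2, 3, 9, 3, 2, 3, 9], 2, [3, 2, 3, 5, 4, 3, 10, 3]⟩⟩,
   ⟨119, 120, 116, 0, ⟨[4, 3, 6, 5, 4, 3, 6, 5, 4, 3, 4, 4], [5, 2, 3, 2, 3, 9, 3, 2, 3, 9, 4, 9, 7, 5, 2, 3, 2, 3, 9, 3, 2, 3, 9, 4, 9, 7, 5, 2, 3, 2, 3, 9, 3, 2, 3, 9, 5, 5], 2, [3, 4, 5, 9, 3, 9, 5, 5, 4, 3, 5]⟩⟩,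
   ⟨0, 6, 116, 0, ⟨[], [4], 2, []⟩⟩]

/-- starting product for relator 10 -/
def start10 : List Nat := [0, 1, 2, 1, 2, 1, 2, 1, 2]

/-- reduction of relator 10 -/
def path10 : List Mv :=
  [⟨1, 0, 0, 1, 3⟩,
   ⟨2, 0, 3, 2, 4⟩,
   ⟨0, 7, 2, 2, 0⟩,
   ⟨2, 0, 4, 1, 5⟩,
   ⟨0, 5, 1, 1, 0⟩,
   ⟨2, 0, 5, 2, 1⟩,
   ⟨0, 1, 1, 1, 0⟩,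
   ⟨0, 0, 2, 2, 0⟩]

/-- starting product for relator 19 -/
def start19 : List Nat := [6, 7, 1, 6, 1, 7, 7, 1, 7, 1, 7, 1, 6, 1, 7, 1, 7, 1, 7]

/-- reduction of relator 19 -/
def path19 : List Mv :=
  [⟨0, 5, 7, 7, 0⟩,
   ⟨0, 16, 1, 1, 0⟩,
   ⟨3, 0, 7, 1, 8⟩,
   ⟨0, 1, 7, 7, 0⟩,
   ⟨3, 0, 1, 6, 9⟩,
   ⟨0, 1, 1, 1, 0⟩,
   ⟨3, 0, 7, 1, 8⟩,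
   ⟨0, 1, 7, 7, 0⟩,
   ⟨3, 1, 7, 6, 10⟩,
   ⟨0, 1, 7, 7, 0⟩,
   ⟨3, 0, 1, 6, 9⟩,
   ⟨1, 6, 10, 9, 11⟩,
   ⟨2, 0, 11, 1, 12⟩,
   ⟨0, 5, 1, 1, 0⟩,
   ⟨2, 0, 12, 8, 9⟩,
   ⟨0, 1, 9, 9, 0⟩,
   ⟨0, 0, 8, 8, 0⟩]

/-- starting product for relator 27 -/
def start27 : List Nat := [13, 14, 13, 14, 2, 0]

/-- reduction of relator 27 -/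
def path27 : List Mv :=
  [⟨1, 3, 14, 2, 15⟩,
   ⟨1, 0, 15, 0, 16⟩,
   ⟨2, 0, 16, 13, 14⟩,
   ⟨0, 1, 14, 14, 0⟩,
   ⟨0, 0, 13, 13, 0⟩]

/-- starting product for relator 32 -/
def start32 : List Nat := [17, 18, 19, 20, 21, 19, 18, 17, 19, 21, 20, 19, 22]

/-- reduction of relator 32 -/
def path32 : List Mv :=
  [⟨1, 3, 20, 21, 23⟩,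
   ⟨1, 5, 21, 20, 23⟩,
   ⟨1, 1, 19, 22, 24⟩,
   ⟨2, 0, 24, 17, 25⟩,
   ⟨1, 9, 23, 17, 26⟩,
   ⟨3, 0, 26, 25, 27⟩,
   ⟨1, 8, 19, 27, 28⟩,
   ⟨2, 0, 28, 26, 29⟩,
   ⟨1, 7, 17, 26, 23⟩,
   ⟨1, 0, 23, 29, 30⟩,
   ⟨2, 0, 30, 18, 31⟩,
   ⟨0, 5, 18, 18, 0⟩,
   ⟨2, 0, 31, 19, 23⟩,
   ⟨0, 1, 23, 23, 0⟩,
   ⟨0, 0, 19, 19, 0⟩]

/-- starting product for relator 33 -/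
def start33 : List Nat := [32, 17, 18, 32, 19, 20, 21, 19, 32, 18, 17, 32, 19, 21, 20, 19, 20, 22, 32, 17, 18, 32, 19, 20, 21, 19, 22, 17, 18]

/-- reduction of relator 33 -/
def path33 : List Mv :=
  [⟨1, 5, 20, 21, 23⟩,
   ⟨1, 7, 21, 20, 23⟩,
   ⟨1, 9, 20, 21, 23⟩,
   ⟨3, 9, 19, 23, 31⟩,
   ⟨0, 1, 19, 19, 0⟩,
   ⟨3, 4, 19, 23, 31⟩,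
   ⟨0, 1, 19, 19, 0⟩,
   ⟨3, 6, 19, 23, 31⟩,
   ⟨0, 1, 19, 19, 0⟩,
   ⟨3, 3, 32, 17, 33⟩,
   ⟨3, 1, 32, 18, 34⟩,
   ⟨0, 1, 32, 32, 0⟩,
   ⟨3, 1, 32, 18, 34⟩,
   ⟨3, 1, 32, 17, 33⟩,
   ⟨0, 1, 32, 32, 0⟩,
   ⟨3, 3, 32, 17, 33⟩,
   ⟨3, 1, 32, 18, 34⟩,
   ⟨0, 1, 32, 32, 0⟩,
   ⟨1, 0, 31, 22, 35⟩,
   ⟨1, 9, 20, 22, 36⟩,
   ⟨3, 7, 34, 31, 37⟩,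
   ⟨0, 1, 34, 34, 0⟩,
   ⟨3, 8, 33, 37, 38⟩,
   ⟨0, 1, 33, 33, 0⟩,
   ⟨2, 3, 34, 35, 39⟩,
   ⟨2, 0, 35, 39, 40⟩,
   ⟨1, 1, 40, 17, 41⟩,
   ⟨2, 4, 36, 33, 42⟩,
   ⟨2, 0, 33, 42, 43⟩,
   ⟨1, 1, 43, 39, 44⟩,
   ⟨3, 0, 44, 41, 30⟩,
   ⟨3, 4, 31, 42, 45⟩,
   ⟨1, 1, 31, 30, 46⟩,
   ⟨3, 0, 46, 44, 47⟩,
   ⟨1, 1, 46, 18, 48⟩,
   ⟨2, 1, 38, 45, 49⟩,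
   ⟨3, 1, 49, 47, 48⟩,
   ⟨3, 0, 48, 49, 45⟩,
   ⟨0, 1, 48, 48, 0⟩,
   ⟨0, 0, 45, 45, 0⟩]

/-- starting product for relator 36 -/
def start36 : List Nat := [0, 2, 7, 1, 14, 13, 7, 1, 14, 13, 7, 1, 14, 13]

/-- reduction of relator 36 -/
def path36 : List Mv :=
  [⟨1, 12, 2, 0, 50⟩,
   ⟨1, 0, 50, 13, 51⟩,
   ⟨2, 0, 51, 14, 13⟩,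
   ⟨3, 1, 13, 1, 52⟩,
   ⟨3, 1, 13, 7, 53⟩,
   ⟨0, 1, 13, 13, 0⟩,
   ⟨2, 4, 14, 1, 54⟩,
   ⟨2, 1, 54, 7, 55⟩,
   ⟨1, 1, 55, 14, 56⟩,
   ⟨2, 0, 56, 52, 57⟩,
   ⟨2, 1, 57, 53, 58⟩,
   ⟨1, 1, 58, 14, 59⟩,
   ⟨3, 1, 1, 7, 60⟩,
   ⟨3, 1, 1, 13, 61⟩,
   ⟨0, 1, 1, 1, 0⟩,
   ⟨3, 0, 7, 52, 62⟩,
   ⟨3, 0, 62, 7, 63⟩,
   ⟨3, 1, 62, 53, 64⟩,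
   ⟨1, 1, 62, 59, 65⟩,
   ⟨2, 4, 64, 65, 66⟩,
   ⟨2, 0, 65, 66, 67⟩,
   ⟨1, 4, 63, 66, 68⟩,
   ⟨2, 0, 68, 67, 69⟩,
   ⟨2, 0, 67, 69, 61⟩,
   ⟨2, 0, 69, 61, 60⟩,
   ⟨0, 1, 60, 60, 0⟩,
   ⟨0, 0, 61, 61, 0⟩]

/-- starting product for relator 37 -/
def start37 : List Nat := [0, 2, 7, 1, 14, 13, 1, 7, 13, 14, 7, 1, 14, 13, 1, 7, 13, 14, 7, 1, 14, 13, 1, 7, 13, 14, 7, 1, 14, 13, 1, 7, 13, 14]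

/-- reduction of relator 37 -/
def path37 : List Mv :=
  [⟨1, 32, 2, 0, 50⟩,
   ⟨1, 0, 50, 14, 16⟩,
   ⟨2, 1, 13, 7, 70⟩,
   ⟨3, 30, 7, 16, 71⟩,
   ⟨0, 1, 7, 7, 0⟩,
   ⟨2, 27, 14, 1, 54⟩,
   ⟨1, 1, 54, 71, 72⟩,
   ⟨3, 26, 1, 13, 61⟩,
   ⟨0, 1, 1, 1, 0⟩,
   ⟨3, 2, 1, 13, 61⟩,
   ⟨3, 1, 1, 14, 54⟩,
   ⟨0, 1, 1, 1, 0⟩,
   ⟨3, 0, 7, 14, 73⟩,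
   ⟨1, 24, 54, 73, 74⟩,
   ⟨3, 1, 7, 13, 70⟩,
   ⟨0, 1, 7, 7, 0⟩,
   ⟨3, 0, 1, 13, 61⟩,
   ⟨3, 1, 1, 14, 54⟩,
   ⟨0, 1, 1, 1, 0⟩,
   ⟨3, 0, 7, 14, 73⟩,
   ⟨1, 19, 54, 73, 74⟩,
   ⟨3, 1, 7, 13, 70⟩,
   ⟨0, 1, 7, 7, 0⟩,
   ⟨3, 0, 1, 13, 61⟩,
   ⟨3, 1, 1, 14, 54⟩,
   ⟨0, 1, 1, 1, 0⟩,
   ⟨3, 0, 7, 14, 73⟩,
   ⟨1, 14, 54, 73, 74⟩,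
   ⟨3, 1, 7, 13, 70⟩,
   ⟨0, 1, 7, 7, 0⟩,
   ⟨2, 0, 61, 72, 75⟩,
   ⟨3, 10, 74, 70, 76⟩,
   ⟨1, 1, 74, 72, 77⟩,
   ⟨1, 0, 77, 75, 78⟩,
   ⟨3, 1, 70, 61, 79⟩,
   ⟨3, 1, 70, 74, 80⟩,
   ⟨0, 1, 70, 70, 0⟩,
   ⟨3, 0, 61, 74, 81⟩,
   ⟨3, 1, 61, 70, 82⟩,
   ⟨0, 1, 61, 61, 0⟩,
   ⟨2, 0, 76, 78, 83⟩,
   ⟨2, 0, 78, 83, 84⟩,
   ⟨1, 1, 84, 79, 85⟩,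
   ⟨1, 4, 83, 85, 86⟩,
   ⟨2, 0, 86, 80, 87⟩,
   ⟨2, 0, 80, 87, 88⟩,
   ⟨1, 1, 88, 81, 0⟩,
   ⟨1, 0, 0, 82, 87⟩,
   ⟨0, 0, 87, 87, 0⟩]

/-- starting product for relator 38 -/
def start38 : List Nat := [1, 7, 1, 7, 1, 13, 14, 1, 7, 1, 7, 1, 7, 1, 7, 1, 13, 14, 1, 7, 1, 7, 1, 7, 1, 7, 1, 13, 14, 1, 7, 1, 7, 1, 7, 1, 7, 1, 13, 14, 1, 7, 1, 7, 7, 1, 7, 1, 6, 1, 2, 1, 6, 1, 7, 1, 7, 1, 7, 6, 1, 2, 1, 6, 7, 1, 1, 2, 1, 2, 0]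

/-- reduction of relator 38 -/
def path38 : List Mv :=
  [⟨0, 43, 7, 7, 0⟩,
   ⟨0, 20, 1, 1, 0⟩,
   ⟨1, 2, 2, 0, 50⟩,
   ⟨0, 43, 1, 1, 0⟩,
   ⟨0, 63, 7, 7, 0⟩,
   ⟨0, 61, 1, 1, 0⟩,
   ⟨3, 0, 6, 1, 9⟩,
   ⟨1, 1, 6, 2, 89⟩,
   ⟨3, 0, 89, 1, 54⟩,
   ⟨1, 1, 89, 6, 2⟩,
   ⟨3, 1, 1, 7, 60⟩,
   ⟨0, 1, 1, 1, 0⟩,
   ⟨3, 0, 7, 1, 8⟩,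
   ⟨0, 1, 7, 7, 0⟩,
   ⟨3, 0, 6, 1, 9⟩,
   ⟨1, 1, 6, 2, 89⟩,
   ⟨3, 0, 89, 1, 54⟩,
   ⟨1, 1, 89, 6, 2⟩,
   ⟨3, 0, 2, 7, 90⟩,
   ⟨0, 1, 2, 2, 0⟩,
   ⟨3, 0, 1, 50, 77⟩,
   ⟨0, 1, 1, 1, 0⟩,
   ⟨3, 0, 7, 1, 8⟩,
   ⟨0, 1, 7, 7, 0⟩,
   ⟨3, 3, 1, 7, 60⟩,
   ⟨0, 1, 1, 1, 0⟩,
   ⟨3, 0, 7, 1, 8⟩,
   ⟨0, 1, 7, 7, 0⟩,
   ⟨3, 0, 1, 7, 60⟩,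
   ⟨0, 1, 1, 1, 0⟩,
   ⟨3, 2, 1, 7, 60⟩,
   ⟨0, 1, 1, 1, 0⟩,
   ⟨3, 0, 7, 1, 8⟩,
   ⟨0, 1, 7, 7, 0⟩,
   ⟨3, 0, 1, 7, 60⟩,
   ⟨0, 1, 1, 1, 0⟩,
   ⟨3, 2, 1, 7, 60⟩,
   ⟨0, 1, 1, 1, 0⟩,
   ⟨3, 0, 7, 1, 8⟩,
   ⟨0, 1, 7, 7, 0⟩,
   ⟨3, 0, 1, 7, 60⟩,
   ⟨0, 1, 1, 1, 0⟩,
   ⟨3, 8, 54, 90, 91⟩,
   ⟨1, 1, 54, 77, 92⟩,
   ⟨3, 5, 60, 8, 93⟩,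
   ⟨0, 1, 60, 60, 0⟩,
   ⟨3, 2, 60, 8, 93⟩,
   ⟨0, 1, 60, 60, 0⟩,
   ⟨3, 2, 60, 8, 93⟩,
   ⟨0, 1, 60, 60, 0⟩,
   ⟨2, 0, 13, 14, 51⟩,
   ⟨3, 19, 14, 93, 94⟩,
   ⟨0, 1, 14, 14, 0⟩,
   ⟨3, 17, 13, 94, 95⟩,
   ⟨1, 1, 13, 51, 50⟩,
   ⟨2, 0, 50, 9, 96⟩,
   ⟨2, 0, 9, 96, 97⟩,
   ⟨1, 1, 97, 54, 0⟩,
   ⟨1, 0, 0, 2, 50⟩,
   ⟨2, 0, 50, 60, 77⟩,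
   ⟨3, 1, 77, 8, 98⟩,
   ⟨1, 1, 77, 9, 99⟩,
   ⟨2, 5, 13, 14, 51⟩,
   ⟨3, 1, 51, 93, 100⟩,
   ⟨1, 1, 51, 13, 50⟩,
   ⟨1, 0, 50, 14, 16⟩,
   ⟨3, 11, 14, 100, 95⟩,
   ⟨1, 1, 14, 16, 50⟩,
   ⟨3, 0, 50, 93, 101⟩,
   ⟨2, 1, 50, 95, 102⟩,
   ⟨1, 1, 102, 96, 103⟩,
   ⟨2, 8, 95, 101, 104⟩,
   ⟨1, 1, 104, 95, 105⟩,
   ⟨1, 9, 101, 105, 106⟩,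
   ⟨2, 0, 106, 103, 107⟩,
   ⟨2, 1, 107, 60, 108⟩,
   ⟨1, 1, 108, 98, 109⟩,
   ⟨3, 6, 103, 60, 110⟩,
   ⟨1, 1, 103, 109, 111⟩,
   ⟨2, 0, 111, 99, 112⟩,
   ⟨2, 0, 99, 112, 92⟩,
   ⟨1, 6, 110, 112, 113⟩,
   ⟨3, 1, 92, 91, 114⟩,
   ⟨0, 1, 92, 92, 0⟩,
   ⟨3, 1, 1, 113, 114⟩,
   ⟨3, 0, 114, 1, 8⟩,
   ⟨0, 1, 114, 114, 0⟩,
   ⟨0, 0, 8, 8, 0⟩]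

end CfsgLib.Spor.Th.Mult
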