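import Cfsg.Agent.Lib.Spor.Th.Mult.Setup

/-!
The relation between `de` and the conjugate of `d` by `u`, in a central extension.
-/

namespace CfsgLib.Spor.Th.Mult

variable {Γ : Type*} [Group Γ] {π : Γ →* Cfsg.Spor.Th}

/-- If `g` of order three and `z` commute in the quotient and some element maps `(g, z)` to
`(z⁻¹, g⁻¹)`, then preimages commute; so an involution `r` differing from a `z`-conjugate of an
inverting involution by a power of `g` inverts the preimage of `g` exactly. -/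
theorem inverts_of_swap (hc : ∀ x : Γ, π x = 1 → ∀ g, x * g = g * x) {D g R z y : Γ}
    (h3 : g ^ 3 = 1) (hD : D * g * D⁻¹ = g⁻¹) (hgz : π (z * g) = π (g * z))
    (hy1 : π (y * g * y⁻¹) = π z⁻¹) (hy2 : π (y * z * y⁻¹) = π g⁻¹)
    (hR : π (z⁻¹ * D * z) = π (g * R)) : R * g * R⁻¹ = g⁻¹ := by
  set l := z * g * z⁻¹ * g⁻¹ with hl
  have hl1 : π l = 1 := by
    rw [hl, map_mul, map_mul, map_inv, map_inv, hgz, map_mul]
    group
  have lc : ∀ w, l * w = w * l := hc l hl1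
  have hl3 : l ^ 3 = 1 := by
    have e : (z * g * z⁻¹) = l * g := by rw [hl]; group
    have := congrArg (fun x => x ^ 3) e
    simp only [conj_pow, h3, mul_one, mul_inv_cancel] at this
    rw [(show Commute l g from lc g).mul_pow, h3, mul_one] at this
    exact this.symm
  -- conjugate the commutator
  set m := y * g * y⁻¹ * z with hm
  set n := y * z * y⁻¹ * g with hn
  have hm1 : π m = 1 := by rw [hm, map_mul, hy1, ← map_mul, inv_mul_cancel, map_one]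
  have hn1 : π n = 1 := by rw [hn, map_mul, hy2, ← map_mul, inv_mul_cancel, map_one]
  have e1 : y * g * y⁻¹ = m * z⁻¹ := by rw [hm]; group
  have e2 : y * z * y⁻¹ = n * g⁻¹ := by rw [hn]; group
  have hl2 : l = g⁻¹ * z⁻¹ * g * z := by
    calc l = y * l * y⁻¹ := by rw [← lc]; group
      _ = (y * z * y⁻¹) * (y * g * y⁻¹) * (y * z * y⁻¹)⁻¹ * (y * g * y⁻¹)⁻¹ := by rw [hl]; group
      _ = (n * g⁻¹) * (m * z⁻¹) * (n * g⁻¹)⁻¹ * (m * z⁻¹)⁻¹ := by rw [e1, e2]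
      _ = n * (g⁻¹ * m) * z⁻¹ * (g * n⁻¹) * z * m⁻¹ := by group
      _ = n * (m * g⁻¹) * z⁻¹ * (n⁻¹ * g) * z * m⁻¹ := by
          rw [← hc m hm1 g⁻¹, hc n⁻¹ (by rw [map_inv, hn1, inv_one]) g]
      _ = n * m * (g⁻¹ * z⁻¹ * n⁻¹) * (g * z) * m⁻¹ := by group
      _ = n * m * (n⁻¹ * (g⁻¹ * z⁻¹)) * (g * z) * m⁻¹ := by
          rw [hc n⁻¹ (by rw [map_inv, hn1, inv_one]) (g⁻¹ * z⁻¹)]
      _ = n * m * n⁻¹ * ((g⁻¹ * z⁻¹ * g * z) * m⁻¹) := by group
      _ = n * m * n⁻¹ * (m⁻¹ * (g⁻¹ * z⁻¹ * g * z)) := by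
          rw [hc m⁻¹ (by rw [map_inv, hm1, inv_one]) _]
      _ = n * (m * n⁻¹) * m⁻¹ * (g⁻¹ * z⁻¹ * g * z) := by group
      _ = _ := by rw [hc m hm1 n⁻¹]; group
  have hli : g⁻¹ * z⁻¹ * g * z = l⁻¹ := by
    have : z * g = l * g * z := by rw [hl]; group
    calc g⁻¹ * z⁻¹ * g * z = g⁻¹ * z⁻¹ * (l⁻¹ * (l * g * z)) := by group
      _ = g⁻¹ * z⁻¹ * (l⁻¹ * (z * g)) := by rw [← this]
      _ = g⁻¹ * z⁻¹ * (z * g * l⁻¹) := by
          rw [hc l⁻¹ (by rw [map_inv, hl1, inv_one]) (z * g)]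
      _ = l⁻¹ := by group
  rw [hli] at hl2
  have l1 : l = 1 := by
    have : l * l = 1 := by conv_lhs => arg 2; rw [hl2]
                           exact mul_inv_cancel l
    calc l = l ^ 3 * (l * l)⁻¹ := by group
      _ = 1 := by rw [hl3, this]; simp
  have zg : z * g = g * z := by
    rw [hl] at l1
    exact mul_inv_eq_iff_eq_mul.1 (mul_inv_eq_one.1 l1)
  -- the conjugate of `D` by `z` inverts `g`
  have hR' : (z⁻¹ * D * z) * g * (z⁻¹ * D * z)⁻¹ = g⁻¹ := by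
    calc (z⁻¹ * D * z) * g * (z⁻¹ * D * z)⁻¹ = z⁻¹ * D * (z * g) * z⁻¹ * D⁻¹ * z := by group
      _ = z⁻¹ * (D * g * D⁻¹) * z := by rw [zg]; group
      _ = z⁻¹ * g⁻¹ * (z * g) * g⁻¹ := by rw [hD]; group
      _ = g⁻¹ := by rw [zg]; group
  set k := (g * R)⁻¹ * (z⁻¹ * D * z) with hk
  have hk1 : π k = 1 := by rw [hk, map_mul, map_inv, hR, inv_mul_cancel]
  have e : z⁻¹ * D * z = g * R * k := by rw [hk]; group
  rw [e] at hR'
  calc R * g * R⁻¹ = g⁻¹ * ((g * R) * g * (g * R)⁻¹) * g := by group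
    _ = g⁻¹ * ((g * R) * (k * g) * k⁻¹ * (g * R)⁻¹) * g := by rw [hc k hk1 g]; group
    _ = g⁻¹ * (g * R * k * g * (g * R * k)⁻¹) * g := by group
    _ = g⁻¹ := by rw [hR']; group

end CfsgLib.Spor.Th.Mult
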