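import Cfsg.Agent.Lib.Spor.Th.Mult.Data

/-!
The checks of the certificate data.
-/

namespace CfsgLib.Spor.Th.Mult

open CfsgLib.Spor.Th

/-- preimage words of the letters: products of involutions -/
noncomputable def liftW : List (List (List Nat)) :=
  let r1 : List Nat := [3, 2, 3, 4, 3, 2, 3]
  let r2 : List Nat := [9, 3, 2, 3, 4, 3, 2, 3]
  [[[0]], [[1]], [[2]], [[3]], [[4]], [[3], [3, 5]], [[3, 5], [3]], [], [], [r2, r1], [r1, r2]]

/-- the word lists agree -/
noncomputable def sameList : List (List Nat) → List (List Nat) → Bool
  | [], [] => true
  | u :: l, v :: m => eqT u v && sameList l m
  | _, _ => false

/-- the start is the relator -/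
noncomputable def okStart (k : Nat) (L : List Nat) : Bool :=
  ((thRels.getD k []).all fun x => Nat.blt x 11 && !Nat.beq x 7 && !Nat.beq x 8) &&
    sameList (L.map fun i => wd (nm names i)) ((thRels.getD k []).flatMap fun x => liftW.getD x [])

theorem base_ok : okBase = true := by decide +kernel
theorem imgs_ok : okImgs imgs = true := by decide +kernel
theorem names_ok : names.all okName = true := by decide +kernel
theorem merges_ok : merges.all (okMerge imgs names) = true := by decide +kernel
theorem witness_ok : witness.all (okMerge imgs names) = true := by decide +kernel
theorem start10_ok : okStart 10 start10 = true := by decide +kernel
theorem start19_ok : okStart 19 start19 = true := by decide +kernel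
theorem start27_ok : okStart 27 start27 = true := by decide +kernel
theorem start32_ok : okStart 32 start32 = true := by decide +kernel
theorem start33_ok : okStart 33 start33 = true := by decide +kernel
theorem start36_ok : okStart 36 start36 = true := by decide +kernel
theorem start37_ok : okStart 37 start37 = true := by decide +kernel
theorem start38_ok : okStart 38 start38 = true := by decide +kernel
theorem path10_ok : run names merges path10 start10 = true := by decide +kernel
theorem path19_ok : run names merges path19 start19 = true := by decide +kernel
theorem path27_ok : run names merges path27 start27 = true := by decide +kernel
theorem path32_ok : run names merges path32 start32 = true := by decide +kernel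
theorem path33_ok : run names merges path33 start33 = true := by decide +kernel
theorem path36_ok : run names merges path36 start36.reverse = true := by decide +kernel
theorem path37_ok : run names merges path37 start37.reverse = true := by decide +kernel
theorem path38_ok : run names merges path38 start38 = true := by decide +kernel

end CfsgLib.Spor.Th.Mult
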