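import Cfsg.Agent.Lib.Spor.Th.Mult.Canon

/-!
Pairs of commuting involutions with exact product, and dihedral relations.
-/

namespace CfsgLib.Spor.Th.Mult

variable {Γ : Type*} [Group Γ] {π : Γ →* Cfsg.Spor.Th}

/-- the word conjugating `a` to `c` and `c` to `a * c` -/
noncomputable def wCyc : List Nat := [3, 2, 1, 0, 3, 2, 1]

/-- the normalised setting -/
structure Norm (π : Γ →* Cfsg.Spor.Th) (A : Γ) : Prop extends Ext π where
  hA : π A = letter 0
  isA_c : IsA (letter 2)
  cyc_a : (tev wCyc)⁻¹ * letter 0 * tev wCyc = letter 2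
  cyc_c : (tev wCyc)⁻¹ * letter 2 * tev wCyc = letter 0 * letter 2
  good_ac : X π A (letter 0) * X π A (letter 2) = X π A (letter 0 * letter 2)

variable {A : Γ}

/-- a pair with exact product -/
def Good (π : Γ →* Cfsg.Spor.Th) (A : Γ) (v w : Cfsg.Spor.Th) : Prop :=
  IsA v ∧ IsA w ∧ IsA (v * w) ∧ X π A v * X π A w = X π A (v * w)

theorem conj_pow_inv {G : Type*} [Group G] (x y : G) (m : ℕ) (hx : x * x = 1) (hy : y * y = 1) :
    x * (x * y) ^ m * x = ((x * y) ^ m)⁻¹ ∧ y * (x * y) ^ m * y = ((x * y) ^ m)⁻¹ := by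
  have hxi := inv_eq_of_mul_eq_one_left hx
  have hyi := inv_eq_of_mul_eq_one_left hy
  constructor
  · have : x * (x * y) * x⁻¹ = (x * y)⁻¹ := by
      rw [mul_inv_rev, hxi, hyi, ← mul_assoc, hx, one_mul]
    have h2 := congrArg (fun z => z ^ m) this
    simp only [conj_pow, inv_pow] at h2
    rwa [hxi] at h2
  · have : y * (x * y) * y⁻¹ = (x * y)⁻¹ := by
      rw [mul_inv_rev, hxi, hyi, mul_assoc, mul_assoc, hy, mul_one]
    have h2 := congrArg (fun z => z ^ m) this
    simp only [conj_pow, inv_pow] at h2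
    rwa [hyi] at h2

variable (N : Norm π A)
include N

theorem Norm.conjX {v : Cfsg.Spor.Th} (h : IsA v) (g : Γ) :
    g⁻¹ * X π A v * g = X π A ((π g)⁻¹ * v * π g) := X_equiv N.toExt N.hA h g

theorem Norm.X_sq {v : Cfsg.Spor.Th} (h : IsA v) : X π A v * X π A v = 1 := by
  obtain ⟨n, hn⟩ := N.surj (tev wCyc)
  have ha : IsA (letter 0) := ⟨1, by simp⟩
  have h1 := N.conjX ha n
  have h2 := N.conjX N.isA_c n
  rw [hn, N.cyc_a] at h1
  rw [hn, N.cyc_c] at h2
  have hac : IsA (letter 0 * letter 2) := N.cyc_c ▸ N.isA_c.conj _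
  have h3 := N.conjX hac n
  have e : (tev wCyc)⁻¹ * (letter 0 * letter 2) * tev wCyc = letter 0 := by
    have h0 : letter 2 * (letter 0 * letter 2) = letter 0 := by
      have hh : letter 2 * letter 0 = letter 0 * letter 2 := by
        calc letter 2 * letter 0 = (letter 2)⁻¹ * (letter 0)⁻¹ := by
              rw [N.isA_c.inv, ha.inv]
          _ = (letter 0 * letter 2)⁻¹ := (mul_inv_rev _ _).symm
          _ = letter 0 * letter 2 := hac.inv
      rw [← mul_assoc, hh, mul_assoc, N.isA_c.sq, mul_one]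
    calc (tev wCyc)⁻¹ * (letter 0 * letter 2) * tev wCyc
        = (tev wCyc)⁻¹ * letter 0 * tev wCyc * ((tev wCyc)⁻¹ * letter 2 * tev wCyc) := by group
      _ = letter 0 := by rw [N.cyc_a, N.cyc_c, h0]
  rw [hn, e] at h3
  -- the relation moved once round
  have key : X π A (letter 2) * X π A (letter 0 * letter 2) = X π A (letter 0) := by
    calc _ = (n⁻¹ * X π A (letter 0) * n) * (n⁻¹ * X π A (letter 2) * n) := by rw [h1, h2]
      _ = n⁻¹ * (X π A (letter 0) * X π A (letter 2)) * n := by group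
      _ = _ := by rw [N.good_ac, h3]
  have hcomm : Commute (X π A (letter 2)) (X π A (letter 0)) := by
    have : Commute (letter 2) (letter 0) := by
      show letter 2 * letter 0 = letter 0 * letter 2
      calc letter 2 * letter 0 = (letter 2)⁻¹ * (letter 0)⁻¹ := by rw [N.isA_c.inv, ha.inv]
        _ = (letter 0 * letter 2)⁻¹ := (mul_inv_rev _ _).symm
        _ = letter 0 * letter 2 := hac.inv
    exact X_commute N.toExt N.hA ha (by rw [π_X N.toExt N.hA N.isA_c]; exact this)
  have hc2 : X π A (letter 2) * X π A (letter 2) = 1 := by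
    rw [← N.good_ac, ← hcomm.eq, ← mul_assoc] at key
    exact mul_eq_right.1 key
  obtain ⟨g, rfl⟩ := exists_lift N.toExt h
  rw [← N.conjX ha g]
  have hA2 : X π A (letter 0) * X π A (letter 0) = 1 := by
    calc X π A (letter 0) * X π A (letter 0)
        = n * ((n⁻¹ * X π A (letter 0) * n) * (n⁻¹ * X π A (letter 0) * n)) * n⁻¹ := by group
      _ = 1 := by rw [h1, hc2]; group
  calc g⁻¹ * X π A (letter 0) * g * (g⁻¹ * X π A (letter 0) * g)
      = g⁻¹ * (X π A (letter 0) * X π A (letter 0)) * g := by group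
    _ = 1 := by rw [hA2]; group

theorem Norm.X_inv {v : Cfsg.Spor.Th} (h : IsA v) : (X π A v)⁻¹ = X π A v :=
  inv_eq_of_mul_eq_one_left (N.X_sq h)

/-- moving a factor to the left over another -/
theorem Norm.X_swapR {v w : Cfsg.Spor.Th} (hv : IsA v) (hw : IsA w) :
    X π A v * X π A w = X π A w * X π A (w * v * w) := by
  have := N.conjX hv (X π A w)
  rw [π_X N.toExt N.hA hw, hw.inv, N.X_inv hw] at this
  rw [← this, ← mul_assoc, ← mul_assoc, N.X_sq hw, one_mul]

/-- moving a factor to the right over another -/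
theorem Norm.X_swapL {v w : Cfsg.Spor.Th} (hv : IsA v) (hw : IsA w) :
    X π A v * X π A w = X π A (v * w * v) * X π A v := by
  have := N.conjX hw (X π A v)
  rw [π_X N.toExt N.hA hv, hv.inv, N.X_inv hv] at this
  rw [← this, mul_assoc, N.X_sq hv, mul_one]

omit N in
theorem Good.left {v w : Cfsg.Spor.Th} (h : Good π A v w) : IsA v := h.1

theorem Good.symm {v w : Cfsg.Spor.Th} (h : Good π A v w) : Good π A w v := by
  obtain ⟨hv, hw, hvw, e⟩ := h
  have e1 : w * v = v * w := by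
    calc w * v = (v⁻¹ * w⁻¹)⁻¹ := by group
      _ = (v * w)⁻¹ := by rw [hv.inv, hw.inv]
      _ = v * w := hvw.inv
  refine ⟨hw, hv, e1 ▸ hvw, ?_⟩
  rw [e1]
  calc X π A w * X π A v = (X π A w)⁻¹ * (X π A v)⁻¹ := by rw [N.X_inv hv, N.X_inv hw]
    _ = (X π A (v * w))⁻¹ := by rw [← mul_inv_rev, e]
    _ = X π A (v * w) := N.X_inv hvw

theorem Good.third {v w : Cfsg.Spor.Th} (h : Good π A v w) : Good π A v (v * w) := by
  obtain ⟨hv, hw, hvw, e⟩ := h
  have e1 : v * (v * w) = w := by rw [← mul_assoc, hv.sq, one_mul]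
  refine ⟨hv, hvw, e1.symm ▸ hw, ?_⟩
  rw [e1, ← e, ← mul_assoc, N.X_sq hv, one_mul]

theorem Good.conj {v w : Cfsg.Spor.Th} (h : Good π A v w) (k : Cfsg.Spor.Th) :
    Good π A (k⁻¹ * v * k) (k⁻¹ * w * k) := by
  obtain ⟨hv, hw, hvw, e⟩ := h
  obtain ⟨g, rfl⟩ := N.surj k
  have e1 : (π g)⁻¹ * v * π g * ((π g)⁻¹ * w * π g) = (π g)⁻¹ * (v * w) * π g := by group
  refine ⟨hv.conj _, hw.conj _, e1 ▸ hvw.conj _, ?_⟩
  rw [e1, ← N.conjX hvw, ← N.conjX hv, ← N.conjX hw, ← e]
  group

theorem good_a_c : Good π A (letter 0) (letter 2) :=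
  ⟨⟨1, by simp⟩, N.isA_c, N.cyc_c ▸ N.isA_c.conj _, N.good_ac⟩

/-- reduction to a pair containing `a` -/
theorem good_of_frame {v w g k y : Cfsg.Spor.Th} (hv : g⁻¹ * letter 0 * g = v)
    (hw : g * w * g⁻¹ = k⁻¹ * y * k) (hk : Commute k (letter 0)) (h : Good π A (letter 0) y) :
    Good π A v w := by
  have := Good.conj N h (k * g)
  have e1 : (k * g)⁻¹ * letter 0 * (k * g) = v := by
    rw [← hv, mul_inv_rev]
    calc g⁻¹ * k⁻¹ * letter 0 * (k * g) = g⁻¹ * (k⁻¹ * (letter 0 * k)) * g := by group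
      _ = _ := by rw [← hk.eq, inv_mul_cancel_left]
  have e2 : (k * g)⁻¹ * y * (k * g) = w := by
    calc (k * g)⁻¹ * y * (k * g) = g⁻¹ * (k⁻¹ * y * k) * g := by group
      _ = w := by rw [← hw]; group
  rwa [e1, e2] at this

omit N in
/-- closing two exact products through a common involution -/
theorem good_witness {v c w : Cfsg.Spor.Th} (N : Norm π A) (h1 : Good π A v c)
    (h2 : Good π A c w) {ζ : Γ}
    (h3 : X π A (v * c) * X π A (c * w) = ζ * X π A (v * w)) :
    X π A v * X π A w = ζ * X π A (v * w) := by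
  have hc : IsA c := h1.2.1
  calc X π A v * X π A w = X π A v * (X π A c * X π A c) * X π A w := by rw [N.X_sq hc, mul_one]
    _ = (X π A v * X π A c) * (X π A c * X π A w) := by simp only [mul_assoc]
    _ = _ := by rw [h1.2.2.2, h2.2.2.2, h3]

/-- dihedral relations hold exactly -/
theorem dihedral {v w : Cfsg.Spor.Th} (hv : IsA v) (hw : IsA w) {n : ℕ} (h : (v * w) ^ n = 1) :
    (X π A v * X π A w) ^ n = 1 := by
  have πp : ∀ m : ℕ, π ((X π A v * X π A w) ^ m) = (v * w) ^ m := fun m => by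
    rw [map_pow, map_mul, π_X N.toExt N.hA hv, π_X N.toExt N.hA hw]
  have hXv := N.X_sq hv
  have hXw := N.X_sq hw
  rcases Nat.even_or_odd' n with ⟨k, rfl | rfl⟩
  · set q := (X π A v * X π A w) ^ k with hq
    have e : ((π q))⁻¹ * v * π q = v := by
      rw [hq, πp]
      have h1 := (conj_pow_inv v w k hv.sq hw.sq).1
      have h3 : (v * w) ^ k = ((v * w) ^ k)⁻¹ := eq_inv_of_mul_eq_one_left (by rw [← pow_add, ← two_mul]; exact h)
      rw [← h3] at h1
      calc ((v * w) ^ k)⁻¹ * v * (v * w) ^ k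
          = ((v * w) ^ k)⁻¹ * (v * (v * w) ^ k * v) * v⁻¹ := by group
        _ = v⁻¹ := by rw [h1]; group
        _ = v := hv.inv
    have hc := N.conjX hv q
    rw [e] at hc
    have h1 := (conj_pow_inv _ _ k hXv hXw).1
    rw [← hq] at h1
    have : q⁻¹ = q := by
      rw [← h1]
      calc X π A v * q * X π A v = q * (q⁻¹ * X π A v * q) * X π A v := by group
        _ = q := by rw [hc, mul_assoc, hXv, mul_one]
    rw [two_mul, pow_add, ← hq]
    conv_lhs => arg 1; rw [← this]
    exact inv_mul_cancel q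
  · set p := X π A v * X π A w with hp
    set q := p ^ k with hq
    have e : ((π q))⁻¹ * w * π q = v := by
      rw [hq, hp, πp]
      have h1 := (conj_pow_inv v w k hv.sq hw.sq).2
      have h2 : ((v * w) ^ k)⁻¹ * ((v * w) ^ k)⁻¹ = v * w := by
        rw [← mul_inv_rev, ← pow_add, ← two_mul]
        exact inv_eq_of_mul_eq_one_left (by rw [← pow_succ']; exact h)
      calc ((v * w) ^ k)⁻¹ * w * (v * w) ^ k
          = ((v * w) ^ k)⁻¹ * (w * (v * w) ^ k * w) * w⁻¹ := by group
        _ = v * w * w⁻¹ := by rw [h1, h2]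
        _ = v := by group
    have hc := N.conjX hw q
    rw [e] at hc
    have h1 := (conj_pow_inv _ _ k hXv hXw).2
    rw [← hp, ← hq] at h1
    have h4 : X π A v = q⁻¹ * q⁻¹ * X π A w := by
      calc X π A v = q⁻¹ * (X π A w * q * X π A w) * (X π A w)⁻¹ := by rw [← hc]; group
        _ = q⁻¹ * q⁻¹ * X π A w := by rw [h1, N.X_inv hw]
    have h5 : p = q⁻¹ * q⁻¹ := by rw [hp, h4, mul_assoc, hXw, mul_one]
    calc p ^ (2 * k + 1) = (q * q) * p := by rw [hq, ← pow_add, ← pow_succ, two_mul]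
      _ = 1 := by rw [h5]; group

end CfsgLib.Spor.Th.Mult
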