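import Cfsg.Agent.Lib.Spor.Th.Mult.Ede

/-!
Preimages of the generators satisfying all relators, in a central extension of the presented
Thompson group.
-/

namespace CfsgLib.Spor.Th.Mult

open CfsgLib.Spor.Th

/-- the word of the first involution in `u` -/
noncomputable def wR2 : List Nat := [9, 3, 2, 3, 4, 3, 2, 3]

/-- the word of the second involution in `u` -/
noncomputable def wR1 : List Nat := [3, 2, 3, 4, 3, 2, 3]

/-- identities for the relation with `de` -/
noncomputable def okSwap : Bool :=
  let g : List Nat := [3, 4]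
  let z : List Nat := [10, 3, 4, 9]
  let y : List Nat := [4, 3, 9, 3, 2, 4, 3, 2]
  eqT (wR2 ++ wR1) [9] && eqT (z ++ g) (g ++ z) && eqT (conjW y g) (twinv z) &&
    eqT (conjW y z) (twinv g) && eqT (nameW [3] z) (g ++ [10, 3, 9])

theorem swap_ok : okSwap = true := by decide +kernel

theorem isA_p : IsA (letter 3 * letter 5) :=
  small_spec.2.2.1.1 ▸ isA_el base_ok (by decide +kernel)

theorem isA_r1 : IsA (tev wR1) := by
  have h : el (nm names 14) = tev wR1 := small_spec.2.2.1.2
  exact h ▸ isA_el base_ok (by decide +kernel)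

theorem isA_r2 : IsA (tev wR2) := (base_spec base_ok).2 3 (by norm_num)

theorem isA_bd : IsA (letter 1 * letter 3) := by
  have h := List.all_eq_true.1 merges_ok (merges.getD 47 ⟨0, 0, 0, 0, ⟨[], [], 0, []⟩⟩)
    (by simp [merges])
  simp only [okMerge, Bool.and_eq_true] at h
  have e := eqT_sound h.1.1.2
  rw [tev_append] at e
  have h19 := small_spec.2.2.2.1
  have h32 := small_spec.2.2.2.2.1
  rw [← h19, ← h32]
  exact (show el (nm names 19) * el (nm names 32) = el (nm names 115) from e) ▸ isA_el base_ok h.1.1.1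

/-- the index of a relator in a decidable form -/
theorem rel_at (k : Nat) (w : List Nat) (h : thRels[k]? = some w) : tev w = 1 :=
  tev_rel (List.mem_of_getElem? h)

variable {Γ : Type*} [Group Γ] {π : Γ →* Cfsg.Spor.Th} {A : Γ}

/-- preimages of the letters -/
noncomputable def liftLet (π : Γ →* Cfsg.Spor.Th) (A τ : Γ) (x : Nat) : Γ :=
  let S := X π A (letter 3) * X π A (letter 3 * letter 5)
  let U := X π A (tev wR2) * X π A (tev wR1)
  [X π A (letter 0), X π A (letter 1), X π A (letter 2), X π A (letter 3), X π A (letter 4),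
    S, S⁻¹, τ, τ⁻¹, U, U⁻¹].getD x 1

variable (N : Norm π A)
include N

/-- a commutation relator -/
theorem comm_rel {v : Cfsg.Spor.Th} (hv : IsA v) {g : Γ} (h : (π g)⁻¹ * v * π g * v = 1) :
    g⁻¹ * X π A v * g * X π A v = 1 := by
  rw [N.conjX hv, eq_inv_of_mul_eq_one_left h, hv.inv, N.X_sq hv]

theorem π_S : π (X π A (letter 3) * X π A (letter 3 * letter 5)) = letter 5 := by
  rw [map_mul, π_X N.toExt N.hA isA_d, π_X N.toExt N.hA isA_p, ← mul_assoc, isA_d.sq, one_mul]

theorem π_U : π (X π A (tev wR2) * X π A (tev wR1)) = letter 9 := by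
  have h := swap_ok
  simp only [okSwap, Bool.and_eq_true] at h
  rw [map_mul, π_X N.toExt N.hA isA_r2, π_X N.toExt N.hA isA_r1, ← tev_append,
    eqT_sound h.1.1.1.1, tev_one]

/-- the preimage of `t` -/
theorem exists_tau : ∃ τ : Γ, π τ = letter 7 ∧ τ ^ 3 = 1 ∧
    (X π A (tev wR2) * X π A (tev wR1))⁻¹ * τ * (X π A (tev wR2) * X π A (tev wR1)) = τ⁻¹ := by
  set U := X π A (tev wR2) * X π A (tev wR1) with hU
  have hπU : π U = letter 9 := π_U N
  obtain ⟨T, hT⟩ := N.surj (letter 7)
  have h34 := rel_at 34 [10, 7, 9, 7] (by decide +kernel)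
  have h20 := rel_at 20 [7, 7, 7] (by decide +kernel)
  have e10 : letter 10 = (letter 9)⁻¹ := letter_tiv (x := 9) (by norm_num)
  simp only [tev, List.map_cons, List.map_nil, List.prod_cons, List.prod_nil, mul_one] at h34 h20
  rw [e10] at h34
  have htu : (letter 9)⁻¹ * letter 7 * letter 9 = (letter 7)⁻¹ := by
    refine eq_inv_of_mul_eq_one_left ?_
    simpa [mul_assoc] using h34
  have ht2 : (letter 7)⁻¹ * (letter 7)⁻¹ = letter 7 := by
    calc (letter 7)⁻¹ * (letter 7)⁻¹ = (letter 7)⁻¹ * (letter 7)⁻¹ * (letter 7 * (letter 7 * letter 7)) := by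
          rw [h20, mul_one]
      _ = letter 7 := by group
  set τ := U⁻¹ * T * U * T⁻¹ with hτ
  have hπτ : π τ = letter 7 := by
    rw [hτ, map_mul, map_mul, map_mul, map_inv, map_inv, hπU, hT, htu, ht2]
  -- the square of the preimage of `u` commutes with `T`
  have hac : IsA (letter 0 * letter 2) := N.cyc_c ▸ N.isA_c.conj _
  have hu2 := rel_at 27 [9, 9, 2, 0] (by decide +kernel)
  simp only [tev, List.map_cons, List.map_nil, List.prod_cons, List.prod_nil, mul_one] at hu2
  have hUU : π (U * U) = letter 0 * letter 2 := by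
    rw [map_mul, hπU]
    have : letter 9 * letter 9 * (letter 2 * letter 0) = 1 := by simpa [mul_assoc] using hu2
    rw [eq_inv_of_mul_eq_one_left this, mul_inv_rev, N.isA_c.inv, isA_a.inv]
  have hk : π ((X π A (letter 0 * letter 2))⁻¹ * (U * U)) = 1 := by
    rw [map_mul, map_inv, π_X N.toExt N.hA hac, hUU, inv_mul_cancel]
  have hTac : Commute (π T) (letter 0 * letter 2) := by
    have c : ∀ x ∈ [0, 2], Commute (letter 7) (letter x) := by
      intro x hx
      have h : ([0, 2].all fun x => eqC [7, x] [x, 7]) = true := by decide +kernel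
      have := eqC_sound (List.all_eq_true.1 h x hx)
      simpa [tev, Commute, SemiconjBy] using this
    rw [hT]
    exact (c 0 (by simp)).mul_right (c 2 (by simp))
  have hc : Commute T (U * U) := by
    have h1 := X_commute N.toExt N.hA hac hTac
    have h2 : Commute T ((X π A (letter 0 * letter 2))⁻¹ * (U * U)) := (N.toExt.ker_comm hk T).symm
    have := h1.mul_right h2
    rwa [mul_inv_cancel_left] at this
  have hinv : U⁻¹ * τ * U = τ⁻¹ := by
    rw [hτ]
    calc U⁻¹ * (U⁻¹ * T * U * T⁻¹) * U = (U * U)⁻¹ * (T * (U * U)) * (U⁻¹ * T⁻¹ * U) := by group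
      _ = T * (U⁻¹ * T⁻¹ * U) := by rw [hc.eq]; group
      _ = _ := by group
  refine ⟨τ, hπτ, ?_, hinv⟩
  have hk2 : π (T⁻¹ * τ) = 1 := by rw [map_mul, map_inv, hπτ, hT, inv_mul_cancel]
  have hk2' := N.toExt.ker_comm hk2
  have e : U⁻¹ * τ * U = τ * τ := by
    calc U⁻¹ * τ * U = U⁻¹ * T * ((T⁻¹ * τ) * U) := by group
      _ = U⁻¹ * T * U * (T⁻¹ * τ) := by rw [hk2']; group
      _ = τ * T * (T⁻¹ * τ) := by rw [hτ]; group
      _ = τ * τ := by group
  rw [hinv] at e
  calc τ ^ 3 = (τ * τ) * τ := by rw [pow_succ, pow_two]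
    _ = 1 := by rw [← e, inv_mul_cancel]

theorem π_liftLet {τ : Γ} (hτ : π τ = letter 7) {x : Nat} (hx : x < 11) :
    π (liftLet π A τ x) = letter x := by
  have e6 : letter 6 = (letter 5)⁻¹ := letter_tiv (x := 5) (by norm_num)
  have e8 : letter 8 = (letter 7)⁻¹ := letter_tiv (x := 7) (by norm_num)
  have e10 : letter 10 = (letter 9)⁻¹ := letter_tiv (x := 9) (by norm_num)
  interval_cases x <;>
    simp only [liftLet, List.getD_cons_zero, List.getD_cons_succ, map_inv, π_S N, π_U N, hτ,
      π_X N.toExt N.hA isA_a, π_X N.toExt N.hA isA_b, π_X N.toExt N.hA N.isA_c,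
      π_X N.toExt N.hA isA_d, π_X N.toExt N.hA isA_e, e6, e8, e10]

theorem liftW_prod (τ : Γ) {x : Nat} (hx : x < 11) (h7 : x ≠ 7) (h8 : x ≠ 8) :
    ((liftW.getD x []).map fun w => X π A (tev w)).prod = liftLet π A τ x := by
  have e35 : tev [3, 5] = letter 3 * letter 5 := by simp [tev]
  have i1 := N.X_inv isA_d
  have i2 := N.X_inv isA_p
  have i3 : (X π A (tev [3, 2, 3, 4, 3, 2, 3]))⁻¹ = _ := N.X_inv isA_r1
  have i4 : (X π A (tev [9, 3, 2, 3, 4, 3, 2, 3]))⁻¹ = _ := N.X_inv isA_r2
  interval_cases x <;> first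
    | exact absurd rfl h7
    | exact absurd rfl h8
    | simp [liftW, liftLet, tev_one, e35, mul_inv_rev, i1, i2, i3, i4, wR1, wR2]

omit N in
theorem sameList_map : ∀ {L M : List (List Nat)}, sameList L M = true →
    L.map tev = M.map tev
  | [], [], _ => rfl
  | u :: L, v :: M, h => by
    simp only [sameList, Bool.and_eq_true] at h
    rw [List.map_cons, List.map_cons, eqT_sound h.1, sameList_map h.2]
  | [], _ :: _, h => by simp [sameList] at h
  | _ :: _, [], h => by simp [sameList] at h

/-- relators reduced by certificates -/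
theorem path_rel {k : Nat} {L : List Nat} (hs : okStart k L = true)
    {P : List Mv} (hp : run names merges P L = true ∨ run names merges P L.reverse = true) (τ : Γ) :
    ((thRels.getD k []).map (liftLet π A τ)).prod = 1 := by
  simp only [okStart, Bool.and_eq_true, List.all_eq_true] at hs
  obtain ⟨hl, hsame⟩ := hs
  have h1 : (L.map (XE π A names)).prod = 1 := by
    rcases hp with h | h
    · exact run_sound N base_ok (merge_good N) names_ok P L h
    · exact prod_reverse_eq_one N base_ok names_ok (run_sound N base_ok (merge_good N) names_ok P _ h)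
  have e := congrArg (List.map (X π A)) (sameList_map hsame)
  simp only [List.map_map] at e
  rw [show L.map (XE π A names) = L.map (X π A ∘ tev ∘ fun i => wd (nm names i)) from rfl, e] at h1
  have key : ∀ w : List Nat, (∀ x ∈ w, x < 11 ∧ x ≠ 7 ∧ x ≠ 8) →
      ((w.flatMap fun x => liftW.getD x []).map (X π A ∘ tev)).prod = (w.map (liftLet π A τ)).prod := by
    intro w
    induction w with
    | nil => intro _; rfl
    | cons x w ih =>
      intro hw
      obtain ⟨a, b, c⟩ := hw x (List.mem_cons_self ..)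
      rw [List.flatMap_cons, List.map_append, List.prod_append, List.map_cons, List.prod_cons,
        ih fun y hy => hw y (List.mem_cons_of_mem _ hy), ← liftW_prod N τ a b c]
      rfl
  rw [← key (thRels.getD k []) fun x hx => ?_]
  · exact h1
  · have h := hl x hx
    exact ⟨lt_of_blt h.1.1, fun e => by simp [e] at h, fun e => by simp [e] at h⟩

end CfsgLib.Spor.Th.Mult
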