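import Cfsg.Agent.Lib.Spor.Th.Mult.Section
import Cfsg.Agent.Lib.Spor.Th.Mult.Cent
import Cfsg.Prelude.Def_KGroupFacts

/-!
The Schur multiplier of the presented Thompson group is trivial.
-/

namespace CfsgLib.Spor.Th.Mult

open scoped commutatorElement

theorem ker_eq_bot
    (hC : Subgroup.centralizer ({CfsgLib.ThCent.th .a} : Set Cfsg.Spor.Th) = CfsgLib.ThCent.hSub)
    {Γ : Type} [Group Γ] {π : Γ →* Cfsg.Spor.Th} (h : Cfsg.IsStemExtension π) : π.ker = ⊥ := by
  obtain ⟨hs, hc, hd⟩ := h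
  obtain ⟨A, N⟩ := exists_norm
    ({ surj := hs, central := hc, cent := cent_of_centralizer hs hc hC } : Ext π)
  obtain ⟨σ, hσ⟩ := exists_section N
  have hle : commutator Γ ≤ σ.range := by
    rw [commutator_def, Subgroup.commutator_le]
    intro x _ y _
    have split : ∀ z : Γ, ∃ k ∈ Subgroup.center Γ, z = σ (π z) * k := fun z =>
      ⟨(σ (π z))⁻¹ * z, hc (by rw [MonoidHom.mem_ker, map_mul, map_inv, hσ, inv_mul_cancel]),
        by group⟩
    obtain ⟨k, hk, hx⟩ := split x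
    obtain ⟨l, hl, hy⟩ := split y
    refine ⟨⁅π x, π y⁆, ?_⟩
    rw [map_commutatorElement, commutatorElement_def, commutatorElement_def]
    conv_rhs => rw [hx, hy]
    simp only [mul_inv_rev]
    have hk' : ∀ z, z * k = k * z := Subgroup.mem_center_iff.1 hk
    have hl' : ∀ z, z * l⁻¹ = l⁻¹ * z := Subgroup.mem_center_iff.1 (inv_mem hl)
    set p := σ (π x)
    set q := σ (π y)
    calc p * q * p⁻¹ * q⁻¹ = p * (k * k⁻¹) * q * p⁻¹ * (l * l⁻¹) * q⁻¹ := by group
      _ = p * k * (q * l) * (k⁻¹ * p⁻¹) * (l⁻¹ * q⁻¹) := by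
        have e1 : k⁻¹ * (q * (p⁻¹ * l)) = q * l * (k⁻¹ * p⁻¹) := by
          rw [← (Subgroup.mem_center_iff.1 (inv_mem hk) _ : (q * (p⁻¹ * l)) * k⁻¹ = _),
            Subgroup.mem_center_iff.1 hl p⁻¹]
          calc q * (l * p⁻¹) * k⁻¹ = q * l * (p⁻¹ * k⁻¹) := by group
            _ = _ := by rw [Subgroup.mem_center_iff.1 (inv_mem hk) p⁻¹]
        calc p * (k * k⁻¹) * q * p⁻¹ * (l * l⁻¹) * q⁻¹
            = p * k * (k⁻¹ * (q * (p⁻¹ * l))) * (l⁻¹ * q⁻¹) := by group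
          _ = p * k * (q * l * (k⁻¹ * p⁻¹)) * (l⁻¹ * q⁻¹) := by rw [e1]
          _ = _ := by group
  refine (Subgroup.eq_bot_iff_forall _).2 fun z hz => ?_
  obtain ⟨g, rfl⟩ := hle (hd hz)
  rw [MonoidHom.mem_ker, hσ] at hz
  rw [hz, map_one]

theorem multiplier_trivial [Finite Cfsg.Spor.Th]
    (hC : Subgroup.centralizer ({CfsgLib.ThCent.th .a} : Set Cfsg.Spor.Th) = CfsgLib.ThCent.hSub) :
    Cfsg.HasCyclicSchurMultiplier Cfsg.Spor.Th 1 := by
  refine ⟨⟨Cfsg.Spor.Th, inferInstance, inferInstance, MonoidHom.id _,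
    ⟨Function.surjective_id, ?_, ?_⟩, ?_⟩, fun Γ _ _ π h => ?_⟩
  · intro x hx; rw [show x = 1 from hx]; exact one_mem _
  · intro x hx; rw [show x = 1 from hx]; exact one_mem _
  · have : Subsingleton (MonoidHom.id Cfsg.Spor.Th).ker := ⟨fun a b => Subtype.ext (a.2.trans b.2.symm)⟩
    have : Subsingleton (Multiplicative (ZMod 1)) := (inferInstance : Subsingleton (Fin 1))
    exact ⟨{
      toFun := fun _ => 1
      invFun := fun _ => 1
      left_inv := fun _ => Subsingleton.elim _ _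
      right_inv := fun _ => Subsingleton.elim _ _
      map_mul' := fun _ _ => Subsingleton.elim _ _ }⟩
  · have hk := ker_eq_bot hC h
    have : Subsingleton π.ker := ⟨fun a b => Subtype.ext (by
      rw [Subgroup.mem_bot.1 (hk.le a.2), Subgroup.mem_bot.1 (hk.le b.2)])⟩
    exact ⟨1, fun b => ⟨1, Subsingleton.elim _ _⟩⟩

end CfsgLib.Spor.Th.Mult
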