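import Cfsg.Agent.Lib.Spor.Th.Mult.Checks

/-!
Named involutions, checked exact products and the reduction of products of involutions to one.
-/

namespace CfsgLib.Spor.Th.Mult

open CfsgLib.Spor.Th

/-- words of the four kinds of base involutions: `a`, `c`, `e` and an outer involution of the
group of type G2 -/
noncomputable def baseW : List (List Nat) := [[0], [2], [4], [9, 3, 2, 3, 4, 3, 2, 3]]

/-- `gc` conjugates `a` to `c` -/
noncomputable def wGC : List Nat := [1, 0, 2, 1]

/-- `h` conjugates `a` to `e` -/
noncomputable def wH : List Nat := [1, 2, 3, 2, 1, 10, 1, 2, 3, 4, 2, 3, 1, 2, 3]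

/-- conjugators from `a` -/
noncomputable def baseG : List (List Nat) := [[], wGC, wH]

/-- `x` is conjugated to the outer involution -/
noncomputable def wOut : List Nat := [3, 4, 5, 8, 10, 3, 9, 5, 4, 3]

/-- checks on the bases -/
noncomputable def okBase : Bool :=
  okW wH && okW wOut && eqT (nameW [0] wGC) [2] && eqT (nameW [0] wH) [4] &&
    eqT (nameW [4] wOut) (baseW.getD 3 [])

/-- the kind and the conjugator -/
abbrev Name : Type := Nat × List Nat

/-- the word of a named involution -/
noncomputable def wd (n : Name) : List Nat := nameW (baseW.getD n.1 []) n.2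

/-- the element -/
noncomputable def el (n : Name) : Cfsg.Spor.Th := tev (wd n)

/-- a name is well formed -/
noncomputable def okName (n : Name) : Bool := Nat.blt n.1 4 && okW n.2

theorem base_spec (h : okBase = true) :
    (∀ x < 3, (tev (baseG.getD x []))⁻¹ * letter 0 * tev (baseG.getD x []) = tev (baseW.getD x [])) ∧
    (∀ x < 4, IsA (tev (baseW.getD x []))) := by
  simp only [okBase, Bool.and_eq_true] at h
  obtain ⟨⟨⟨⟨h1, h2⟩, h3⟩, h4⟩, h5⟩ := h
  have e0 : tev [0] = letter 0 := by simp [tev]
  have a := eqT_sound h3
  have b := eqT_sound h4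
  have c := eqT_sound h5
  rw [tev_nameW _ (by decide +kernel : okW wGC = true), e0] at a
  rw [tev_nameW _ h1, e0] at b
  rw [tev_nameW _ h2] at c
  refine ⟨fun x hx => ?_, fun x hx => ?_⟩
  · interval_cases x
    · simp [baseG, baseW, tev]
    · simpa [baseG, baseW] using a
    · simpa [baseG, baseW] using b
  · interval_cases x
    · exact ⟨1, by simp [baseW, tev]⟩
    · exact ⟨_, by simpa [baseW] using a⟩
    · exact ⟨_, by simpa [baseW] using b⟩
    · exact c ▸ (IsA.conj ⟨_, b⟩ _)

theorem isA_el (h : okBase = true) {n : Name} (hn : okName n = true) : IsA (el n) := by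
  simp only [okName, Bool.and_eq_true] at hn
  rw [el, wd, tev_nameW _ hn.2]
  exact ((base_spec h).2 _ (lt_of_blt hn.1)).conj _

/-- A frame for an ordered pair: conjugation of the first member to `a`, and the position of the
second one in the centraliser. -/
structure Frame where
  /-- the product of generators of the centraliser, if needed -/
  q : List Nat
  /-- the image of the second member -/
  z : List Nat
  /-- kind of the image: 1 or 2 -/
  y : Nat
  /-- its conjugator -/
  k : List Nat

/-- the generators of the centralisers of `c` and `e` with their images -/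
abbrev Imgs : Type := List (List Img)

/-- the frame is right for the pair -/
noncomputable def okFrame (T : Imgs) (v w : Name) (f : Frame) : Bool :=
  okName v && okName w && Nat.blt v.1 3 && okW f.k && (f.k.all fun x => eqC [x, 0] [0, x]) &&
  (match v.1 with
    | 0 => eqT (conjW v.2 (wd w)) f.z
    | x + 1 => (f.q.all fun i => Nat.blt i (T.getD x []).length) &&
        eqC (conjW v.2 (wd w)) (srcW (T.getD x []) f.q) && (dstW (T.getD x []) f.q == f.z)) &&
  eqC f.z (nameW (baseW.getD f.y []) f.k)

/-- the tables of images are right -/
noncomputable def okImgs (T : Imgs) : Bool :=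
  (T.getD 0 []).all (okImg wGC) && (T.getD 1 []).all (okImg wH)

theorem frame_spec {T : Imgs} (hb : okBase = true) (hT : okImgs T = true) {v w : Name} {f : Frame}
    (h : okFrame T v w f = true) :
    ∃ g k, g⁻¹ * letter 0 * g = el v ∧ g * el w * g⁻¹ = k⁻¹ * tev (baseW.getD f.y []) * k ∧
      Commute k (letter 0) := by
  simp only [okFrame, Bool.and_eq_true] at h
  obtain ⟨⟨⟨⟨⟨⟨h1, h2⟩, h3⟩, h4⟩, h5⟩, h6⟩, h7⟩ := h
  have hv2 : okW v.2 = true := by
    simp only [okName, Bool.and_eq_true] at h1
    exact h1.2
  have e1 := (base_spec hb).1 v.1 (lt_of_blt h3)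
  have ez := eqC_sound h7
  rw [tev_nameW _ h4] at ez
  have hk : Commute (tev f.k) (letter 0) := by
    simp only [List.all_eq_true] at h5
    clear ez h4 h7
    revert h5
    generalize f.k = ks
    intro h5
    induction ks with
    | nil => simp [tev]
    | cons x l ih =>
      rw [tev_cons]
      refine Commute.mul_left ?_ (ih fun y hy => h5 y (List.mem_cons_of_mem _ hy))
      have := eqC_sound (h5 x (List.mem_cons_self ..))
      simpa [tev, Commute, SemiconjBy] using this
  refine ⟨tev (baseG.getD v.1 []) * tev v.2, tev f.k, ?_, ?_, hk⟩
  · rw [el, wd, tev_nameW _ hv2, ← e1]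
    group
  · rw [← ez]
    obtain ⟨x, w'⟩ := v
    simp only at h6 hv2 h3 ⊢
    match x, h6, h3 with
    | 0, h6, _ =>
      have := eqT_sound h6
      rw [tev_conjW _ hv2] at this
      rw [← this, el]
      simp [baseG, tev]
    | x + 1, h6, h3 =>
      have hx : x + 1 < 3 := lt_of_blt h3
      simp only [Bool.and_eq_true, beq_iff_eq, List.all_eq_true] at h6
      obtain ⟨⟨hq, he⟩, hd⟩ := h6
      have e := eqC_sound he
      rw [tev_conjW _ hv2] at e
      have ht : (T.getD x []).all (okImg (baseG.getD (x + 1) [])) = true := by
        simp only [okImgs, Bool.and_eq_true] at hT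
        have hx2 : x < 2 := by omega
        interval_cases x
        · exact hT.1
        · exact hT.2
      have := img_prod ht f.q fun i hi => lt_of_blt (hq i hi)
      rw [hd, ← e] at this
      rw [← this, el]
      group

/-- A certified triple: the first two multiply to the third; a frame for one of the three pairs. -/
structure Merge where
  /-- first -/
  a : Nat
  /-- second -/
  b : Nat
  /-- product -/
  p : Nat
  /-- which pair has the frame -/
  pos : Nat
  /-- the frame -/
  f : Frame

variable (T : Imgs) (E : List Name)

/-- named element -/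
noncomputable def nm (i : Nat) : Name := E.getD i (0, [])

/-- the triple is right -/
noncomputable def okMerge (m : Merge) : Bool :=
  okName (nm E m.p) && eqT (wd (nm E m.a) ++ wd (nm E m.b)) (wd (nm E m.p)) &&
  (Nat.beq m.f.y 1 || Nat.beq m.f.y 2) &&
  (match m.pos with
    | 0 => okFrame T (nm E m.a) (nm E m.b) m.f
    | 1 => okFrame T (nm E m.b) (nm E m.p) m.f
    | _ => okFrame T (nm E m.p) (nm E m.a) m.f)

/-- One step: kind, position, the two factors and the new one. -/
structure Mv where
  /-- 0 cancel, 1 merge, 2 right, 3 left -/
  kind : Nat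
  /-- position -/
  i : Nat
  /-- first factor -/
  a : Nat
  /-- second factor -/
  b : Nat
  /-- new factor -/
  p : Nat

variable (M : List Merge)

/-- one step -/
noncomputable def stepTo (st : Mv) (L : List Nat) : Option (List Nat) :=
  match L.drop st.i ++ L.take st.i with
  | x :: y :: r =>
    if x = st.a ∧ y = st.b then
      match st.kind with
      | 0 => if eqT (wd (nm E x)) (wd (nm E y)) then some r else none
      | 1 => if M.any (fun m => Nat.beq m.a x && Nat.beq m.b y && Nat.beq m.p st.p)
          then some (st.p :: r) else none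
      | 2 => if okName (nm E st.p) &&
            eqT (wd (nm E y) ++ wd (nm E x) ++ wd (nm E y)) (wd (nm E st.p))
          then some (y :: st.p :: r) else none
      | _ => if okName (nm E st.p) &&
            eqT (wd (nm E x) ++ wd (nm E y) ++ wd (nm E x)) (wd (nm E st.p))
          then some (st.p :: x :: r) else none
    else none
  | _ => none

/-- all steps -/
noncomputable def run : List Mv → List Nat → Bool
  | [], L => L.isEmpty
  | st :: rest, L =>
    match stepTo E M st L with
    | some L' => run rest L'
    | none => false

variable {T E M} {Γ : Type*} [Group Γ] {π : Γ →* Cfsg.Spor.Th} {A : Γ} (N : Norm π A)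

/-- preimage of a named involution -/
noncomputable def XE (π : Γ →* Cfsg.Spor.Th) (A : Γ) (E : List Name) (i : Nat) : Γ :=
  X π A (el (nm E i))

include N

theorem good_merge (hb : okBase = true) (hT : okImgs T = true)
    (hy : ∀ y, y = 1 ∨ y = 2 → Good π A (letter 0) (tev (baseW.getD y [])))
    {m : Merge} (h : okMerge T E m = true) :
    Good π A (el (nm E m.a)) (el (nm E m.b)) ∧
      el (nm E m.a) * el (nm E m.b) = el (nm E m.p) := by
  simp only [okMerge, Bool.and_eq_true, Bool.or_eq_true] at h
  obtain ⟨⟨⟨hp, he⟩, hyy⟩, hf⟩ := h
  have e := eqT_sound he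
  rw [tev_append] at e
  have hy' : m.f.y = 1 ∨ m.f.y = 2 := hyy.imp Nat.eq_of_beq_eq_true Nat.eq_of_beq_eq_true
  refine ⟨?_, e⟩
  have good : ∀ {v w : Name}, okFrame T v w m.f = true → Good π A (el v) (el w) := fun hvw => by
    obtain ⟨g, k, h1, h2, h3⟩ := frame_spec hb hT hvw
    exact good_of_frame N h1 h2 h3 (hy _ hy')
  split at hf
  · exact good hf
  · have G := good hf
    have e3 : el (nm E m.b) * el (nm E m.p) = el (nm E m.a) := by
      have hv := (isA_el hb hp).inv
      have hz : IsA (el (nm E m.b) * el (nm E m.p)) := G.2.2.1
      have hb' : IsA (el (nm E m.b)) := G.1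
      calc el (nm E m.b) * el (nm E m.p) = ((el (nm E m.b)) * el (nm E m.p))⁻¹ := hz.inv.symm
        _ = el (nm E m.p) * el (nm E m.b) := by rw [mul_inv_rev, hb'.inv, hv]
        _ = el (nm E m.a) := by
          rw [show el (nm E m.p) = el (nm E m.a) * el (nm E m.b) from e.symm, mul_assoc, hb'.sq,
            mul_one]
    have G' := Good.symm N (Good.third N G)
    rw [e3] at G'
    exact G'
  · have G := good hf
    have G1 := Good.symm N G
    have G2 := Good.third N G1
    have e2 : el (nm E m.a) * el (nm E m.p) = el (nm E m.b) := by
      rw [show el (nm E m.p) = el (nm E m.a) * el (nm E m.b) from e.symm, ← mul_assoc, G1.1.sq,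
        one_mul]
    rwa [e2] at G2

theorem stepTo_sound (hb : okBase = true)
    (hM : ∀ m ∈ M, Good π A (el (nm E m.a)) (el (nm E m.b)) ∧
      el (nm E m.a) * el (nm E m.b) = el (nm E m.p))
    (hE : E.all okName = true) {st : Mv} {L L' : List Nat} (h : stepTo E M st L = some L')
    (h1 : (L'.map (XE π A E)).prod = 1) : (L.map (XE π A E)).prod = 1 := by
  have hA : ∀ i, IsA (el (nm E i)) := fun i => by
    refine isA_el hb ?_
    rw [nm, List.getD_eq_getElem?_getD]
    cases hi : E[i]? with
    | none => rfl
    | some n => exact List.all_eq_true.1 hE n (List.mem_of_getElem? hi)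
  suffices ((L.drop st.i ++ L.take st.i).map (XE π A E)).prod = 1 by
    rw [List.map_append, List.prod_append] at this
    calc (L.map (XE π A E)).prod
        = ((L.take st.i).map (XE π A E)).prod * ((L.drop st.i).map (XE π A E)).prod := by
          rw [← List.prod_append, ← List.map_append, List.take_append_drop]
      _ = ((L.drop st.i).map (XE π A E)).prod⁻¹ *
          (((L.drop st.i).map (XE π A E)).prod * ((L.take st.i).map (XE π A E)).prod) *
            ((L.drop st.i).map (XE π A E)).prod := by group
      _ = 1 := by rw [this]; group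
  simp only [stepTo] at h
  generalize L.drop st.i ++ L.take st.i = R at h
  match R with
  | [] => simp at h
  | [x] => simp at h
  | x :: y :: r =>
    simp only at h
    by_cases hxy : x = st.a ∧ y = st.b
    swap
    · rw [if_neg hxy] at h; simp at h
    rw [if_pos hxy] at h
    obtain ⟨rfl, rfl⟩ := hxy
    simp only [List.map_cons, List.prod_cons, ← mul_assoc]
    split at h
    · split_ifs at h with hc
      obtain rfl := Option.some.inj h
      have e := eqT_sound hc
      simp only [XE]
      rw [show el (nm E st.a) = el (nm E st.b) from e, N.X_sq (hA _), one_mul]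
      exact h1
    · split_ifs at h with hc
      obtain rfl := Option.some.inj h
      simp only [List.any_eq_true, Bool.and_eq_true] at hc
      obtain ⟨m, hm, ⟨ha, hb'⟩, hp⟩ := hc
      obtain ⟨⟨-, -, -, e⟩, e'⟩ := hM m hm
      rw [← Nat.eq_of_beq_eq_true ha, ← Nat.eq_of_beq_eq_true hb']
      simp only [List.map_cons, List.prod_cons, ← Nat.eq_of_beq_eq_true hp] at h1
      simp only [XE] at h1 ⊢
      rw [e, e']
      exact h1
    · split_ifs at h with hc
      obtain rfl := Option.some.inj h
      simp only [Bool.and_eq_true] at hc
      have e := eqT_sound hc.2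
      rw [tev_append, tev_append] at e
      simp only [List.map_cons, List.prod_cons, ← mul_assoc] at h1
      simp only [XE] at h1 ⊢
      rw [N.X_swapR (hA _) (hA _)]
      rw [show el (nm E st.b) * el (nm E st.a) * el (nm E st.b) = el (nm E st.p) from e]
      exact h1
    · split_ifs at h with hc
      obtain rfl := Option.some.inj h
      simp only [Bool.and_eq_true] at hc
      have e := eqT_sound hc.2
      rw [tev_append, tev_append] at e
      simp only [List.map_cons, List.prod_cons, ← mul_assoc] at h1
      simp only [XE] at h1 ⊢
      rw [N.X_swapL (hA _) (hA _)]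
      rw [show el (nm E st.a) * el (nm E st.b) * el (nm E st.a) = el (nm E st.p) from e]
      exact h1

theorem run_sound (hb : okBase = true)
    (hM : ∀ m ∈ M, Good π A (el (nm E m.a)) (el (nm E m.b)) ∧
      el (nm E m.a) * el (nm E m.b) = el (nm E m.p))
    (hE : E.all okName = true) :
    ∀ (sts : List Mv) (L : List Nat), run E M sts L = true → (L.map (XE π A E)).prod = 1
  | [], L, h => by
    simp only [run, List.isEmpty_iff] at h
    simp [h]
  | st :: rest, L, h => by
    simp only [run] at h
    split at h
    · rename_i L' hL
      exact stepTo_sound N hb hM hE hL (run_sound hb hM hE rest L' h)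
    · simp at h

theorem prod_reverse_eq_one (hb : okBase = true) (hE : E.all okName = true) {L : List Nat}
    (h : (L.reverse.map (XE π A E)).prod = 1) : (L.map (XE π A E)).prod = 1 := by
  have key : ∀ L : List Nat, (L.reverse.map (XE π A E)).prod = ((L.map (XE π A E)).prod)⁻¹ := by
    intro L
    induction L with
    | nil => simp
    | cons x l ih =>
      have hx : IsA (el (nm E x)) := isA_el hb (by
        rw [nm, List.getD_eq_getElem?_getD]
        cases hi : E[x]? with
        | none => rfl
        | some n => exact List.all_eq_true.1 hE n (List.mem_of_getElem? hi))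
      rw [List.reverse_cons, List.map_append, List.prod_append, ih]
      simp [XE, mul_inv_rev, N.X_inv hx]
  rw [key, inv_eq_one] at h
  exact h

end CfsgLib.Spor.Th.Mult
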