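import Cfsg.Agent.Lib.Spor.Th.Mult.Lifts

/-!
A central extension of the presented Thompson group which satisfies the hypothesis on the
centraliser of `a` splits.
-/

set_option maxHeartbeats 4000000

namespace CfsgLib.Spor.Th.Mult

open CfsgLib.Spor.Th

variable {Γ : Type} [Group Γ] {π : Γ →* Cfsg.Spor.Th} {A : Γ} (N : Norm π A)
include N

theorem all_rels {τ : Γ} (hτ : π τ = letter 7) (hτ3 : τ ^ 3 = 1)
    (hτu : (X π A (tev wR2) * X π A (tev wR1))⁻¹ * τ * (X π A (tev wR2) * X π A (tev wR1)) = τ⁻¹) :
    ∀ w ∈ thRels, (w.map (liftLet π A τ)).prod = 1 := by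
  let L := liftLet π A τ
  have hπ : ∀ {x : Nat}, x < 11 → π (L x) = letter x := fun hx => π_liftLet N hτ hx
  have L6 : liftLet π A τ 6 = (L 5)⁻¹ := rfl
  have L8 : liftLet π A τ 8 = (L 7)⁻¹ := rfl
  have L10 : liftLet π A τ 10 = (L 9)⁻¹ := rfl
  have ti : ∀ {x : Nat}, x < 11 → letter (tiv x) = (letter x)⁻¹ := fun hx => letter_tiv hx
  have e6 : letter 6 = (letter 5)⁻¹ := ti (x := 5) (by norm_num)
  have e8 : letter 8 = (letter 7)⁻¹ := ti (x := 7) (by norm_num)
  have e10 : letter 10 = (letter 9)⁻¹ := ti (x := 9) (by norm_num)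
  have vA := isA_a
  have vB := isA_b
  have vC := N.isA_c
  have vD := isA_d
  have vE := isA_e
  have vP := isA_p
  -- generic forms
  have pow2 : ∀ (v w : Cfsg.Spor.Th), IsA v → IsA w → v * (w * (v * w)) = 1 →
      X π A v * (X π A w * (X π A v * X π A w)) = 1 := fun v w hv hw h => by
    have := dihedral N hv hw (n := 2) (by rw [← h]; simp [pow_two, mul_assoc])
    rw [← this]; simp [pow_two, mul_assoc]
  have pow3 : ∀ (v w : Cfsg.Spor.Th), IsA v → IsA w → v * (w * (v * (w * (v * w)))) = 1 →
      X π A v * (X π A w * (X π A v * (X π A w * (X π A v * X π A w)))) = 1 := fun v w hv hw h => by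
    have := dihedral N hv hw (n := 3) (by rw [← h]; simp [pow_succ, mul_assoc])
    rw [← this]; simp [pow_succ, mul_assoc]
  have comm : ∀ (v : Cfsg.Spor.Th) (g : Γ), IsA v → (π g)⁻¹ * (v * (π g * v)) = 1 →
      g⁻¹ * (X π A v * (g * X π A v)) = 1 := fun v g hv h => by
    have := comm_rel N hv (g := g) (by rw [← h]; simp [mul_assoc])
    rw [← this]; simp [mul_assoc]
  have rel : ∀ (k : Nat) (w : List Nat), thRels[k]? = some w → (w.map letter).prod = 1 := rel_at
  intro w hw
  obtain ⟨k, hk, rfl⟩ := List.getElem_of_mem hw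
  have hk' : k < 39 := hk
  have r := rel k thRels[k] (List.getElem?_eq_getElem hk)
  have path : ∀ {n : Nat} (hn : n < thRels.length) {S : List Nat}, okStart n S = true →
      ∀ {P : List Mv}, (run names merges P S = true ∨ run names merges P S.reverse = true) →
      (thRels[n].map L).prod = 1 := fun hn S hs P hp => by
    have := path_rel N hs hp τ
    rwa [List.getD_eq_getElem?_getD, List.getElem?_eq_getElem hn, Option.getD_some] at this
  interval_cases k
  case «10» => exact path hk start10_ok (Or.inl path10_ok)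
  case «19» => exact path hk start19_ok (Or.inl path19_ok)
  case «27» => exact path hk start27_ok (Or.inl path27_ok)
  case «32» => exact path hk start32_ok (Or.inl path32_ok)
  case «33» => exact path hk start33_ok (Or.inl path33_ok)
  case «36» => exact path hk start36_ok (Or.inr path36_ok)
  case «37» => exact path hk start37_ok (Or.inr path37_ok)
  case «38» => exact path hk start38_ok (Or.inl path38_ok)
  all_goals simp only [thRels, List.getElem_cons_zero, List.getElem_cons_succ, List.map_cons,
    List.map_nil, List.prod_cons, List.prod_nil, mul_one] at r ⊢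
  all_goals try simp only [e6, e8, e10] at r
  all_goals try simp only [L6, L8, L10]
  case «0» => exact N.X_sq vA
  case «1» => exact N.X_sq vB
  case «2» => exact N.X_sq vC
  case «3» => exact N.X_sq vD
  case «4» => exact N.X_sq vE
  case «5» => exact pow3 _ _ vA vB r
  case «6» => exact pow2 _ _ vA vE r
  case «7» => exact pow3 _ _ vB vC r
  case «8» => exact pow2 _ _ vB vD r
  case «9» => exact pow2 _ _ vB vE r
  case «11» => exact pow2 _ _ vC vE r
  case «12» => exact pow3 _ _ vD vE r
  case «13» =>
    have hM := merge_good N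
    have g47 := (hM (merges.getD 47 ⟨0, 0, 0, 0, ⟨[], [], 0, []⟩⟩) (by simp [merges])).1
    have g48 := (hM (merges.getD 48 ⟨0, 0, 0, 0, ⟨[], [], 0, []⟩⟩) (by simp [merges])).1
    have gbd : Good π A (letter 1) (letter 3) := by
      rw [← small_spec.2.2.2.1, ← small_spec.2.2.2.2.1]; exact g47
    have gce : Good π A (letter 2) (letter 4) := by
      rw [← small_spec.2.2.2.2.2.1, ← small_spec.2.2.2.2.2.2]; exact g48
    obtain ⟨-, -, hbd, ebd⟩ := gbd
    obtain ⟨-, -, hce, ece⟩ := gce
    have cbe : Commute (letter 1) (letter 4) := by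
      have h : eqT [1, 4] [4, 1] = true := by decide +kernel
      simpa [tev, Commute, SemiconjBy] using eqT_sound h
    have cbd : Commute (letter 1) (letter 3) := by
      have h : eqT [1, 3] [3, 1] = true := by decide +kernel
      simpa [tev, Commute, SemiconjBy] using eqT_sound h
    have cce : Commute (letter 2) (letter 4) := by
      have h : eqT [2, 4] [4, 2] = true := by decide +kernel
      simpa [tev, Commute, SemiconjBy] using eqT_sound h
    have lift : ∀ {v w : Cfsg.Spor.Th}, IsA v → IsA w → Commute v w →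
        Commute (X π A v) (X π A w) := fun hv hw h =>
      X_commute N.toExt N.hA hw (by rw [π_X N.toExt N.hA hv]; exact h)
    have Cbe := lift vB vE cbe
    have Cbd := lift vB vD cbd
    have Cce := lift vC vE cce
    have conj : ∀ {G : Type} [Group G] (b c d e : G), b * e = e * b → b * d = d * b → c * e = e * c →
        (b * c * d * e) ^ 8 = (d * e)⁻¹ * ((b * d) * (c * e)) ^ 8 * (d * e) := by
      intro G _ b c d e h1 h2 h3
      have : b * c * d * e = (d * e)⁻¹ * ((b * d) * (c * e)) * (d * e) := by
        rw [eq_comm, mul_assoc, inv_mul_eq_iff_eq_mul, h2, h3]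
        calc d * b * (e * c) * (d * e) = d * (b * e) * (c * (d * e)) := by simp only [mul_assoc]
          _ = d * e * (b * c * d * e) := by rw [h1]; simp only [mul_assoc]
      rw [this]
      have h := conj_pow (a := (d * e)⁻¹) (b := (b * d) * (c * e)) (i := 8)
      rw [inv_inv] at h
      exact h
    have r' : (letter 1 * letter 2 * letter 3 * letter 4) ^ 8 = 1 := by
      rw [← r]; simp [pow_succ, mul_assoc]
    rw [conj _ _ _ _ cbe.eq cbd.eq cce.eq] at r'
    have r'' : (letter 1 * letter 3 * (letter 2 * letter 4)) ^ 8 = 1 := by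
      have := congrArg (fun z => (letter 3 * letter 4) * z * (letter 3 * letter 4)⁻¹) r'
      simpa [mul_assoc] using this
    have := dihedral N hbd hce r''
    rw [← ebd, ← ece] at this
    have e := conj _ _ _ _ Cbe.eq Cbd.eq Cce.eq
    rw [this, mul_one, inv_mul_cancel] at e
    rw [← e]; simp [pow_succ, mul_assoc, L, liftLet]
  case «14» =>
    have h5 : π (L 5) = letter 5 := hπ (by norm_num)
    have hdp : letter 3 * (letter 3 * letter 5) = letter 5 := by
      rw [← mul_assoc, vD.sq, one_mul]
    have := dihedral N vD vP (n := 7) (by rw [hdp, ← r]; simp [pow_succ, mul_assoc])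
    rw [← this]; simp [pow_succ, mul_assoc, L, liftLet]
  case «15» => exact comm _ _ vA (by rw [hπ (by norm_num)]; exact r)
  case «16» => exact comm _ _ vB (by rw [hπ (by norm_num)]; exact r)
  case «17» => exact comm _ _ vC (by rw [hπ (by norm_num)]; exact r)
  case «18» =>
    show X π A (letter 3) * X π A (letter 3 * letter 5) * (X π A (letter 3) *
      (X π A (letter 3) * X π A (letter 3 * letter 5) * X π A (letter 3))) = 1
    calc _ = X π A (letter 3) * X π A (letter 3 * letter 5) * ((X π A (letter 3) * X π A (letter 3)) *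
          X π A (letter 3 * letter 5) * X π A (letter 3)) := by simp only [mul_assoc]
      _ = X π A (letter 3) * (X π A (letter 3 * letter 5) * X π A (letter 3 * letter 5)) *
          X π A (letter 3) := by rw [N.X_sq vD, one_mul]; simp only [mul_assoc]
      _ = 1 := by rw [N.X_sq vP, mul_one, N.X_sq vD]
  case «20» => rw [← hτ3]; simp [pow_succ, mul_assoc, L, liftLet]
  case «21» => exact comm _ _ vA (by rw [hπ (by norm_num)]; exact r)
  case «22» => exact comm _ _ vB (by rw [hπ (by norm_num)]; exact r)
  case «23» => exact comm _ _ vC (by rw [hπ (by norm_num)]; exact r)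
  case «24» => exact comm _ _ vD (by rw [hπ (by norm_num)]; exact r)
  case «25» => exact comm _ _ vE (by rw [hπ (by norm_num)]; exact r)
  case «26» =>
    have h24 := rel 24 _ (rfl : thRels[24]? = some [8, 3, 7, 3])
    simp only [List.map_cons, List.map_nil, List.prod_cons, List.prod_nil, mul_one, e8] at h24
    have cd : τ⁻¹ * X π A (letter 3) * τ = X π A (letter 3) := by
      rw [N.conjX vD, hτ]
      congr 1
      calc (letter 7)⁻¹ * letter 3 * letter 7
          = (letter 7)⁻¹ * (letter 3 * (letter 7 * letter 3)) * (letter 3)⁻¹ := by group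
        _ = letter 3 := by rw [h24, one_mul, vD.inv]
    have hp : (π τ)⁻¹ * (letter 3 * letter 5) * π τ =
        (letter 3 * letter 5) * letter 3 * (letter 3 * letter 5) := by
      rw [hτ]
      calc (letter 7)⁻¹ * (letter 3 * letter 5) * letter 7
          = ((letter 7)⁻¹ * (letter 3 * (letter 7 * letter 3))) * (letter 3)⁻¹ *
              ((letter 7)⁻¹ * (letter 5 * (letter 7 * ((letter 5)⁻¹ * (letter 5)⁻¹)))) *
              (letter 5 * letter 5) := by group
        _ = letter 3 * letter 5 * (letter 3 * letter 3) * letter 5 := by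
            rw [h24, r, one_mul, mul_one, vD.inv, vD.sq]; group
        _ = _ := by simp only [mul_assoc]
    show τ⁻¹ * (X π A (letter 3) * X π A (letter 3 * letter 5) * (τ *
      ((X π A (letter 3) * X π A (letter 3 * letter 5))⁻¹ *
        (X π A (letter 3) * X π A (letter 3 * letter 5))⁻¹))) = 1
    have hs := N.X_swapR vD vP
    calc τ⁻¹ * (X π A (letter 3) * X π A (letter 3 * letter 5) * (τ *
          ((X π A (letter 3) * X π A (letter 3 * letter 5))⁻¹ *
            (X π A (letter 3) * X π A (letter 3 * letter 5))⁻¹)))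
        = (τ⁻¹ * X π A (letter 3) * τ) * (τ⁻¹ * X π A (letter 3 * letter 5) * τ) *
          ((X π A (letter 3) * X π A (letter 3 * letter 5)) *
            (X π A (letter 3) * X π A (letter 3 * letter 5)))⁻¹ := by group
      _ = X π A (letter 3) * X π A ((letter 3 * letter 5) * letter 3 * (letter 3 * letter 5)) *
          ((X π A (letter 3) * X π A (letter 3 * letter 5)) *
            (X π A (letter 3) * X π A (letter 3 * letter 5)))⁻¹ := by rw [cd, N.conjX vP, hp]
      _ = 1 := by
          rw [show X π A ((letter 3 * letter 5) * letter 3 * (letter 3 * letter 5)) =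
            X π A (letter 3 * letter 5) * X π A (letter 3) * X π A (letter 3 * letter 5) by
              rw [N.X_swapL vP vD, mul_assoc (X π A _) (X π A _), N.X_sq vP, mul_one]]
          group
  case «28» => exact comm _ _ vA (by rw [hπ (by norm_num)]; exact r)
  case «29» => exact comm _ _ vC (by rw [hπ (by norm_num)]; exact r)
  case «30» => exact comm _ _ vE (by rw [hπ (by norm_num)]; exact r)
  case «31» =>
    have hs := swap_ok
    simp only [okSwap, Bool.and_eq_true] at hs
    obtain ⟨⟨⟨⟨-, h1⟩, h2⟩, h3⟩, h4⟩ := hs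
    set D := X π A (letter 3) with hD'
    set g := D * X π A (letter 4) with hg
    set U := L 9 with hU
    have hπU : π U = letter 9 := hπ (by norm_num)
    have hπD : π D = letter 3 := π_X N.toExt N.hA vD
    have hπE : π (X π A (letter 4)) = letter 4 := π_X N.toExt N.hA vE
    obtain ⟨y, hy⟩ := N.surj (tev [4, 3, 9, 3, 2, 4, 3, 2])
    have f1 := eqT_sound h1
    have f2 := eqT_sound h2
    have f3 := eqT_sound h3
    have f4 := eqT_sound h4
    rw [tev_append, tev_append] at f1
    rw [tev_conjW _ (by decide +kernel), tev_winv (okW_spec (by decide +kernel))] at f2 f3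
    rw [tev_nameW _ (by decide +kernel), tev_append] at f4
    have pz : π (U⁻¹ * g * U) = tev [10, 3, 4, 9] := by
      simp [tev, e10, hπU, hg, hπD, hπE, mul_assoc]
    have pg : π g = tev [3, 4] := by simp [tev, hg, hπD, hπE]
    have pR : π (U⁻¹ * D * U) = tev [10, 3, 9] := by simp [tev, e10, hπU, hπD, mul_assoc]
    have g3 : g ^ 3 = 1 := dihedral N vD vE (by
      have := rel 12 _ (rfl : thRels[12]? = some [3, 4, 3, 4, 3, 4])
      rw [← this]; simp [pow_succ, mul_assoc])
    have hinv : D * g * D⁻¹ = g⁻¹ := by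
      rw [hg, mul_inv_rev, N.X_inv vE, N.X_inv vD, ← mul_assoc, N.X_sq vD, one_mul]
    have hR := inverts_of_swap (fun x hx => N.toExt.ker_comm hx) (D := D) (g := g)
      (R := U⁻¹ * D * U) (z := U⁻¹ * g * U) (y := y) g3 hinv
      (by rw [map_mul π _ g, map_mul π g, pz, pg]; exact f1)
      (by rw [map_mul, map_mul, map_inv, map_inv, pz, pg, hy]; exact f2)
      (by rw [map_mul, map_mul, map_inv, map_inv, pz, pg, hy]; exact f3)
      (by rw [map_mul π _ (U⁻¹ * g * U), map_mul, map_inv, map_mul π g, pz, pg, pR, hπD, ← f4,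
        tev_one])
    have hRR : (U⁻¹ * D * U) * (U⁻¹ * D * U) = 1 := by
      calc _ = U⁻¹ * (D * D) * U := by group
        _ = 1 := by rw [hD', N.X_sq vD]; group
    show D * (X π A (letter 4) * (U⁻¹ * (D * (U * (D * (X π A (letter 4) * (U⁻¹ * (D * U)))))))) = 1
    calc _ = g * ((U⁻¹ * D * U) * g * (U⁻¹ * D * U)) := by rw [hg]; group
      _ = 1 := by
        rw [inv_eq_of_mul_eq_one_left hRR] at hR
        rw [hR, mul_inv_cancel]
  case «34» =>
    show (X π A (tev wR2) * X π A (tev wR1))⁻¹ * (τ * (X π A (tev wR2) * X π A (tev wR1) * τ)) = 1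
    rw [← mul_assoc _ (X π A (tev wR2) * X π A (tev wR1)) τ, ← mul_assoc _ _ τ,
      ← mul_assoc _ τ, hτu, inv_mul_cancel]
  case «35» =>
    show X π A (letter 4) * ((L 5)⁻¹ * ((L 5)⁻¹ * ((L 9)⁻¹ * (L 5 * (L 5 * (X π A (letter 4) *
      ((L 5)⁻¹ * ((L 5)⁻¹ * (L 9 * (L 5 * L 5)))))))))) = 1
    have h := comm (letter 4) ((L 5)⁻¹ * (L 5)⁻¹ * L 9 * L 5 * L 5) vE (by
      simp only [map_mul, map_inv, hπ (show 5 < 11 by norm_num), hπ (show 9 < 11 by norm_num)]
      calc _ = (letter 4)⁻¹ * (letter 4 * ((letter 5)⁻¹ * ((letter 5)⁻¹ * ((letter 9)⁻¹ *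
            (letter 5 * (letter 5 * (letter 4 * ((letter 5)⁻¹ * ((letter 5)⁻¹ * (letter 9 *
            (letter 5 * letter 5))))))))))) * letter 4 := by
            simp only [mul_inv_rev, inv_inv, mul_assoc, inv_mul_cancel_left]
        _ = 1 := by rw [r, mul_one, inv_mul_cancel])
    calc _ = X π A (letter 4) * (((L 5)⁻¹ * (L 5)⁻¹ * L 9 * L 5 * L 5)⁻¹ *
          (X π A (letter 4) * ((L 5)⁻¹ * (L 5)⁻¹ * L 9 * L 5 * L 5 * X π A (letter 4)))) *
          (X π A (letter 4))⁻¹ := by
            simp only [mul_inv_rev, inv_inv, mul_assoc, mul_inv_cancel, mul_one]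
      _ = 1 := by rw [h, mul_one, mul_inv_cancel]

theorem exists_section : ∃ σ : Cfsg.Spor.Th →* Γ, ∀ g, π (σ g) = g := by
  obtain ⟨τ, hτ, hτ3, hτu⟩ := exists_tau N
  have hall := all_rels N hτ hτ3 hτu
  have hπL : ∀ {x : Nat}, x < 11 → π (liftLet π A τ x) = letter x := fun hx => π_liftLet N hτ hx
  let f : Cfsg.Spor.Th.Gen → Γ := fun g => match g with
    | .a => liftLet π A τ 0 | .b => liftLet π A τ 1 | .c => liftLet π A τ 2
    | .d => liftLet π A τ 3 | .e => liftLet π A τ 4 | .s => liftLet π A τ 5
    | .t => liftLet π A τ 7 | .u => liftLet π A τ 9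
  have hrel : ∀ r ∈ Cfsg.Spor.Th.extra, FreeGroup.lift f r = 1 := by
    intro r hr
    have e := extra_map_aux (FreeGroup.lift f)
      (by simp [f, liftLet, N.X_inv isA_a]) (by simp [f, liftLet, N.X_inv isA_b])
      (by simp [f, liftLet, N.X_inv N.isA_c]) (by simp [f, liftLet, N.X_inv isA_d])
      (by simp [f, liftLet, N.X_inv isA_e])
    have hmem := List.mem_map_of_mem (f := FreeGroup.lift f) hr
    rw [e] at hmem
    obtain ⟨w, hw, he⟩ := List.mem_map.1 hmem
    rw [← he]
    refine Eq.trans (congrArg List.prod (List.map_congr_left fun x _ => ?_)) (hall w hw)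
    simp [f, liftLet]
  refine ⟨PresentedGroup.toGroup (f := f) (fun r hr => ?_), fun g => ?_⟩
  · rcases hr with hr | hr
    · simp [Cfsg.Spor.coxRelators, Cfsg.Spor.coxNodes, Cfsg.Spor.Th.edges] at hr
    · exact hrel r hr
  · refine congrFun (congrArg DFunLike.coe (PresentedGroup.ext (φ := π.comp _)
      (ψ := MonoidHom.id _) fun x => ?_)) g
    rw [MonoidHom.comp_apply, PresentedGroup.toGroup.of]
    cases x <;> exact hπL (by norm_num)

end CfsgLib.Spor.Th.Mult
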