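import Cfsg.Agent.Lib.Spor.Th.Mult.Facts

/-!
The normalised preimages and the exact products of the pairs of type `(a, e)`.
-/

namespace CfsgLib.Spor.Th.Mult

open CfsgLib.Spor.Th

/-- checks of small identities -/
noncomputable def okSmall : Bool :=
  eqT (nameW [0] wCyc) [2] && eqT (nameW [2] wCyc) [0, 2] && okW wCyc &&
  eqT (nameW [0] [1, 0]) [1] && eqT (nameW [4] [3, 4]) [3] &&
  eqT (wd (nm names 7)) [3, 5] && eqT (wd (nm names 14)) [3, 2, 3, 4, 3, 2, 3] &&
  eqT (wd (nm names 19)) [1] && eqT (wd (nm names 32)) [3] &&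
  eqT (wd (nm names 2)) [2] && eqT (wd (nm names 6)) [4]

theorem small_ok : okSmall = true := by decide +kernel

theorem tev_one (x : Nat) : tev [x] = letter x := by simp [tev]

/-- the small facts in the group -/
theorem small_spec :
    ((tev wCyc)⁻¹ * letter 0 * tev wCyc = letter 2 ∧
      (tev wCyc)⁻¹ * letter 2 * tev wCyc = letter 0 * letter 2) ∧
    ((tev [1, 0])⁻¹ * letter 0 * tev [1, 0] = letter 1 ∧ (tev [3, 4])⁻¹ * letter 4 * tev [3, 4] = letter 3) ∧
    (el (nm names 7) = letter 3 * letter 5 ∧ el (nm names 14) = tev [3, 2, 3, 4, 3, 2, 3]) ∧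
    (el (nm names 19) = letter 1 ∧ el (nm names 32) = letter 3 ∧ el (nm names 2) = letter 2 ∧
      el (nm names 6) = letter 4) := by
  have h := small_ok
  simp only [okSmall, Bool.and_eq_true] at h
  obtain ⟨⟨⟨⟨⟨⟨⟨⟨⟨⟨h1, h2⟩, h3⟩, h4⟩, h5⟩, h6⟩, h7⟩, h8⟩, h9⟩, h10⟩, h11⟩ := h
  have p : tev [0, 2] = letter 0 * letter 2 := by simp [tev]
  have q : tev [3, 5] = letter 3 * letter 5 := by simp [tev]
  have e1 := eqT_sound h1
  have e2 := eqT_sound h2
  have e4 := eqT_sound h4
  have e5 := eqT_sound h5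
  rw [tev_nameW _ h3, tev_one, tev_one] at e1
  rw [tev_nameW _ h3, tev_one, p] at e2
  rw [tev_nameW _ (by decide +kernel : okW [1, 0] = true), tev_one, tev_one] at e4
  rw [tev_nameW _ (by decide +kernel : okW [3, 4] = true), tev_one, tev_one] at e5
  refine ⟨⟨e1, e2⟩, ⟨e4, e5⟩, ⟨?_, ?_⟩, ?_, ?_, ?_, ?_⟩
  · rw [el, eqT_sound h6, q]
  · rw [el, eqT_sound h7]
  · rw [el, eqT_sound h8, tev_one]
  · rw [el, eqT_sound h9, tev_one]
  · rw [el, eqT_sound h10, tev_one]
  · rw [el, eqT_sound h11, tev_one]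

theorem isA_a : IsA (letter 0) := ⟨1, by simp⟩
theorem isA_c : IsA (letter 2) := ⟨_, small_spec.1.1⟩
theorem isA_b : IsA (letter 1) := ⟨_, small_spec.2.1.1⟩
theorem isA_e : IsA (letter 4) := by
  have := (base_spec base_ok).2 2 (by norm_num)
  rw [show baseW.getD 2 [] = [4] from rfl, tev_one] at this
  exact this
theorem isA_d : IsA (letter 3) := small_spec.2.1.2 ▸ isA_e.conj _

variable {Γ : Type*} [Group Γ] {π : Γ →* Cfsg.Spor.Th}

theorem exists_norm (E : Ext π) : ∃ A, Norm π A := by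
  obtain ⟨A₀, hA₀⟩ := E.surj (letter 0)
  have hac : IsA (letter 0 * letter 2) := small_spec.1.2 ▸ isA_c.conj _
  obtain ⟨ga, hga⟩ := exists_lift E isA_a
  set z := X π A₀ (letter 0) * X π A₀ (letter 2) * (X π A₀ (letter 0 * letter 2))⁻¹ with hz
  have hz1 : π z = 1 := by
    rw [hz, map_mul, map_mul, map_inv, π_X E hA₀ isA_a, π_X E hA₀ isA_c, π_X E hA₀ hac,
      mul_inv_cancel]
  have hzc : ∀ g, z * g = g * z := E.ker_comm hz1
  have hA : π (A₀ * z⁻¹) = letter 0 := by rw [map_mul, map_inv, hz1, hA₀, inv_one, mul_one]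
  have hzc' : ∀ g, z⁻¹ * g = g * z⁻¹ := fun g => (Commute.inv_left (hzc g : Commute z g)).eq
  have sc : ∀ v, IsA v → X π (A₀ * z⁻¹) v = X π A₀ v * z⁻¹ := fun v hv => by
    obtain ⟨g, rfl⟩ := exists_lift E hv
    rw [X_conj E hA, X_conj E hA₀]
    calc g⁻¹ * (A₀ * z⁻¹) * g = g⁻¹ * A₀ * (z⁻¹ * g) := by group
      _ = _ := by rw [hzc']; group
  refine ⟨A₀ * z⁻¹,
    { surj := E.surj, central := E.central, cent := E.cent, hA := hA, isA_c := isA_c,
      cyc_a := small_spec.1.1, cyc_c := small_spec.1.2, good_ac := ?_ }⟩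
  rw [sc _ isA_a, sc _ isA_c, sc _ hac]
  calc X π A₀ (letter 0) * z⁻¹ * (X π A₀ (letter 2) * z⁻¹)
      = X π A₀ (letter 0) * (z⁻¹ * X π A₀ (letter 2)) * z⁻¹ := by group
    _ = X π A₀ (letter 0) * X π A₀ (letter 2) * z⁻¹ * z⁻¹ := by rw [hzc']; group
    _ = z * X π A₀ (letter 0 * letter 2) * z⁻¹ * z⁻¹ := by rw [hz]; group
    _ = X π A₀ (letter 0 * letter 2) * z⁻¹ := by rw [hzc]; group

variable {A : Γ} (N : Norm π A)
include N

theorem good_a_e : Good π A (letter 0) (letter 4) := by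
  have hw := witness_ok
  simp only [List.all_eq_true] at hw
  have hb := base_ok
  -- the defect
  obtain ⟨hae⟩ : Nonempty (IsA (letter 0 * letter 4)) := by
    have h := hw (witness.getD 3 ⟨0, 0, 0, 0, ⟨[], [], 0, []⟩⟩) (by simp [witness])
    simp only [okMerge, Bool.and_eq_true] at h
    have e := eqT_sound h.1.1.2
    rw [tev_append] at e
    refine ⟨?_⟩
    have := isA_el hb h.1.1.1
    rw [el, ← e] at this
    simpa [witness, names, nm, wd, nameW, twinv, baseW, tev] using this
  set ζ := X π A (letter 0) * X π A (letter 4) * (X π A (letter 0 * letter 4))⁻¹ with hζ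
  have hζ1 : π ζ = 1 := by
    rw [hζ, map_mul, map_mul, map_inv, π_X N.toExt N.hA isA_a, π_X N.toExt N.hA isA_e,
      π_X N.toExt N.hA hae, mul_inv_cancel]
  have hζc : ∀ g, ζ * g = g * ζ := N.toExt.ker_comm hζ1
  have rel0 : X π A (letter 0) * X π A (letter 4) = ζ * X π A (letter 0 * letter 4) := by
    rw [hζ]; group
  have relE : ∀ m ∈ witness, m.pos = 0 → m.f.y = 2 →
      X π A (el (nm names m.a)) * X π A (el (nm names m.b)) = ζ * X π A (el (nm names m.p)) := by
    intro m hm hp hy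
    have h := hw m hm
    simp only [okMerge, Bool.and_eq_true, hp] at h
    obtain ⟨g, k, h1, h2, h3⟩ := frame_spec hb imgs_ok h.2
    rw [hy, show baseW.getD 2 [] = [4] from rfl, tev_one] at h2
    have e := eqT_sound h.1.1.2
    rw [tev_append] at e
    obtain ⟨q, hq⟩ := N.surj (k * g)
    have c1 : (k * g)⁻¹ * letter 0 * (k * g) = el (nm names m.a) := by
      rw [← h1, mul_inv_rev]
      calc g⁻¹ * k⁻¹ * letter 0 * (k * g) = g⁻¹ * (k⁻¹ * (letter 0 * k)) * g := by group
        _ = _ := by rw [← h3.eq, inv_mul_cancel_left]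
    have c2 : (k * g)⁻¹ * letter 4 * (k * g) = el (nm names m.b) := by
      calc (k * g)⁻¹ * letter 4 * (k * g) = g⁻¹ * (k⁻¹ * letter 4 * k) * g := by group
        _ = _ := by rw [← h2]; group
    have c3 : (k * g)⁻¹ * (letter 0 * letter 4) * (k * g) = el (nm names m.p) := by
      rw [show el (nm names m.p) = el (nm names m.a) * el (nm names m.b) from e.symm, ← c1, ← c2]
      group
    rw [← c1, ← c2, ← c3, ← hq, ← N.conjX isA_a, ← N.conjX isA_e, ← N.conjX hae]
    calc q⁻¹ * X π A (letter 0) * q * (q⁻¹ * X π A (letter 4) * q)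
        = q⁻¹ * (X π A (letter 0) * X π A (letter 4)) * q := by group
      _ = (q⁻¹ * ζ) * X π A (letter 0 * letter 4) * q := by rw [rel0]; group
      _ = _ := by rw [← hζc]; group
  have hy1 : Good π A (letter 0) (letter 2) := good_a_c N
  have G0 : Good π A (el (nm names 0)) (el (nm names 118)) ∧
      el (nm names 0) * el (nm names 118) = el (nm names 119) := by
    have hm := hw (witness.getD 0 ⟨0, 0, 0, 0, ⟨[], [], 0, []⟩⟩) (by simp [witness])
    have e := hm
    simp only [okMerge, Bool.and_eq_true] at e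
    obtain ⟨g, k, h1, h2, h3⟩ := frame_spec hb imgs_ok
      (show okFrame imgs (nm names 0) (nm names 118) _ = true from e.2)
    rw [show baseW.getD (witness.getD 0 ⟨0, 0, 0, 0, ⟨[], [], 0, []⟩⟩).f.y [] = [2] from rfl,
      tev_one] at h2
    have e' := eqT_sound e.1.1.2
    rw [tev_append] at e'
    exact ⟨good_of_frame N h1 h2 h3 hy1, e'⟩
  have R1 := relE (witness.getD 1 ⟨0, 0, 0, 0, ⟨[], [], 0, []⟩⟩) (by simp [witness]) rfl rfl
  have R2 := relE (witness.getD 2 ⟨0, 0, 0, 0, ⟨[], [], 0, []⟩⟩) (by simp [witness]) rfl rfl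
  have e6 := small_spec.2.2.2.2.2.2
  have e0 : el (nm names 0) = letter 0 := by
    simp [el, names, nm, wd, nameW, twinv, baseW, tev]
  simp only [witness, List.getD_cons_succ, List.getD_cons_zero] at R1 R2
  rw [e6] at R1
  have ep : el (nm names 116) = letter 0 * letter 4 := by
    have h := hw (witness.getD 3 ⟨0, 0, 0, 0, ⟨[], [], 0, []⟩⟩) (by simp [witness])
    simp only [okMerge, Bool.and_eq_true] at h
    have e := eqT_sound h.1.1.2
    rw [tev_append] at e
    rw [← e0, ← e6]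
    exact e.symm
  rw [ep] at R2
  obtain ⟨⟨-, hc, -, g0⟩, g0'⟩ := G0
  rw [g0', e0] at g0
  have key : X π A (letter 0) * X π A (letter 4) = ζ * ζ * X π A (letter 0 * letter 4) := by
    calc X π A (letter 0) * X π A (letter 4)
        = X π A (letter 0) * (X π A (el (nm names 118)) * X π A (el (nm names 118))) *
            X π A (letter 4) := by rw [N.X_sq hc, mul_one]
      _ = (X π A (letter 0) * X π A (el (nm names 118))) *
            (X π A (el (nm names 118)) * X π A (letter 4)) := by simp only [mul_assoc]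
      _ = X π A (el (nm names 119)) * (ζ * X π A (el (nm names 120))) := by rw [g0, R1]
      _ = ζ * (X π A (el (nm names 119)) * X π A (el (nm names 120))) := by
          rw [← mul_assoc, ← hζc, mul_assoc]
      _ = ζ * ζ * X π A (letter 0 * letter 4) := by rw [R2, ← mul_assoc]
  rw [rel0] at key
  have : ζ = 1 := by
    have h := mul_right_cancel key
    exact right_eq_mul.1 h
  exact ⟨isA_a, isA_e, hae, by rw [rel0, this, one_mul]⟩

theorem goods : ∀ y, y = 1 ∨ y = 2 → Good π A (letter 0) (tev (baseW.getD y [])) := by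
  rintro y (rfl | rfl)
  · rw [show baseW.getD 1 [] = [2] from rfl, tev_one]
    exact good_a_c N
  · rw [show baseW.getD 2 [] = [4] from rfl, tev_one]
    exact good_a_e N

theorem merge_good : ∀ m ∈ merges, Good π A (el (nm names m.a)) (el (nm names m.b)) ∧
    el (nm names m.a) * el (nm names m.b) = el (nm names m.p) := fun m hm =>
  good_merge N base_ok imgs_ok (goods N) (List.all_eq_true.1 merges_ok m hm)

end CfsgLib.Spor.Th.Mult
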